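import Cfsg.Agent.H964.NoHall.Elts
import Cfsg.Agent.H964.NoHall.Tr
import Cfsg.Agent.NotCT.Orders
import Cfsg.Agent.HN.A12Group

/-!
# No Hall systems: HN (helper964)

The 7-cycle of a subgroup `A₁₂` commutes with a 3-cycle and a 5-cycle.
-/

set_option autoImplicit false

namespace Cfsg.Agent.H964.NoHall

open Subgroup Cfsg Cfsg.Agent.H554 Cfsg.Agent.NotCT MulAction

/-- the commuting cycles in the alternating group of degree 12 -/
theorem alt12_elts : ∃ x y z : alternatingGroup (Fin 12), orderOf x = 7 ∧ orderOf y = 3 ∧ orderOf z = 5 ∧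
    y * x = x * y ∧ z * x = x * z := by
  have : Fact (Nat.Prime 7) := ⟨by norm_num⟩
  have : Fact (Nat.Prime 3) := ⟨by norm_num⟩
  have : Fact (Nat.Prime 5) := ⟨by norm_num⟩
  let p : Equiv.Perm (Fin 12) := c[0, 1, 2, 3, 4, 5, 6]
  let q : Equiv.Perm (Fin 12) := c[7, 8, 9]
  let r : Equiv.Perm (Fin 12) := c[7, 8, 9, 10, 11]
  have hp : Equiv.Perm.sign p = 1 := by decide +kernel
  have hq : Equiv.Perm.sign q = 1 := by decide +kernel
  have hr : Equiv.Perm.sign r = 1 := by decide +kernel
  refine ⟨⟨p, Equiv.Perm.mem_alternatingGroup.mpr hp⟩, ⟨q, Equiv.Perm.mem_alternatingGroup.mpr hq⟩,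
    ⟨r, Equiv.Perm.mem_alternatingGroup.mpr hr⟩, ?_, ?_, ?_, ?_, ?_⟩
  · apply orderOf_eq_prime
    · apply Subtype.ext
      change p ^ 7 = 1
      decide +kernel
    · intro h
      have h1 : p = 1 := congrArg Subtype.val h
      revert h1
      decide +kernel
  · apply orderOf_eq_prime
    · apply Subtype.ext
      change q ^ 3 = 1
      decide +kernel
    · intro h
      have h1 : q = 1 := congrArg Subtype.val h
      revert h1
      decide +kernel
  · apply orderOf_eq_prime
    · apply Subtype.ext
      change r ^ 5 = 1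
      decide +kernel
    · intro h
      have h1 : r = 1 := congrArg Subtype.val h
      revert h1
      decide +kernel
  · apply Subtype.ext
    change q * p = p * q
    decide +kernel
  · apply Subtype.ext
    change r * p = p * r
    decide +kernel

theorem hn_model [Finite Spor.HN] [IsSimpleGroup Spor.HN] (hna : ¬ IsMulCommutative Spor.HN) : NoHall Spor.HN := by
  have hc : Nat.card Spor.HN = prodl [(2, 14), (3, 6), (5, 6), (7, 1), (11, 1), (19, 1)] := by
    rw [Orders.hn ⟨MulEquiv.refl _⟩]; decide +kernel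
  obtain ⟨K, ⟨e⟩⟩ := Cfsg.Agent.HN.A12Group.exists_alternating
  obtain ⟨x, y, z, hx, hy, hz, hxy, hxz⟩ := alt12_elts
  let f : alternatingGroup (Fin 12) →* Spor.HN := K.subtype.comp e.symm.toMonoidHom
  have hf : Function.Injective f := K.subtype_injective.comp e.symm.injective
  refine noHall_of_elts' hna (l := [(2, 14), (3, 6), (5, 6), (7, 1), (11, 1), (19, 1)]) (by decide +kernel) hc
    (r := 7) (by norm_num) (by rw [hc]; decide +kernel) (need := [3, 5]) (x := f x)
    (by rw [orderOf_injective f hf, hx]) ?_ (by decide +kernel)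
  intro q hq
  simp only [List.mem_cons, List.not_mem_nil, or_false] at hq
  rcases hq with rfl | rfl
  · refine ⟨by norm_num, f y, 1, by rw [orderOf_injective f hf, hy], ?_⟩
    rw [pow_one, ← map_mul, hxy, map_mul]
  · refine ⟨by norm_num, f z, 1, by rw [orderOf_injective f hf, hz], ?_⟩
    rw [pow_one, ← map_mul, hxz, map_mul]

theorem hn {G : Type*} [Group G] [Finite G] [IsSimpleGroup G] (hna : ¬ IsMulCommutative G) (h : Spor.IsoHN G) :
    NoHall G := by
  obtain ⟨e⟩ := h
  exact row_congr hna e hn_model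

end Cfsg.Agent.H964.NoHall
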