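import Cfsg.Agent.H964.NoHall.Gen
import Cfsg.Agent.H964.NoHall.Tr
import Cfsg.Agent.NotCT.Orders
import Cfsg.Agent.S0366
import Cfsg.Agent.S0384
import Cfsg.Agent.S0389
import Cfsg.Agent.S2060
import Cfsg.Agent.S2061
import Cfsg.Agent.S2062
import Cfsg.Agent.S2063
import Cfsg.Agent.S2064
import Cfsg.Agent.FooteOdd.SporMEleven
import Cfsg.Agent.H867.OctadCount
import Cfsg.Agent.KFacts.MulCo.OctStab
import Cfsg.Agent.SporadicStructure.M24Frame
import Cfsg.Agent.GolayOrbit.Flags
import Cfsg.Agent.Golay.Flags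

/-!
# No Hall systems: the Mathieu groups (helper964)
-/

set_option autoImplicit false

namespace Cfsg.Agent.H964.NoHall

open Subgroup Cfsg Cfsg.Agent.H554 Cfsg.Agent.NotCT MulAction
open scoped Pointwise

theorem index_stab {α : Type*} [Finite α] (H : Subgroup (Equiv.Perm α)) (p : α) (T : Finset α)
    (hT : ∀ q, q ∈ T ↔ ∃ g ∈ H, g p = q) : (stabilizer H p).index = T.card := by
  have h1 : orbit H p = (T : Set α) := by
    ext q
    rw [Finset.mem_coe, hT]
    constructor
    · rintro ⟨g, rfl⟩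
      exact ⟨g.1, g.2, rfl⟩
    · rintro ⟨g, hg, rfl⟩
      exact ⟨⟨g, hg⟩, rfl⟩
  rw [index_stabilizer, h1, Set.ncard_coe_finset]

/-! ### M11 -/

theorem m11_index : (stabilizer Spor.M11 (none : GolayPt)).index = 12 := by
  have hd := FooteOdd.SporMEleven.dodecad_mem
  have hn : (none : GolayPt) ∉ Spor.squareDodecad := by
    rw [MTwelveType.SylowModel.squareDodecad_eq]; decide +kernel
  have hc : (Finset.univ \ Spor.squareDodecad : Finset GolayPt).card = 12 := by
    rw [MTwelveType.SylowModel.squareDodecad_eq]; decide +kernel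
  rw [← hc]
  refine index_stab _ _ _ fun q => ?_
  rw [Finset.mem_sdiff, and_iff_right (Finset.mem_univ q)]
  constructor
  · intro hq
    -- two more points outside
    have hex : ∀ p : GolayPt, p ∉ Spor.squareDodecad → ∃ x : Fin 3 ↪ GolayPt, (∀ i, x i ∉ Spor.squareDodecad) ∧ x 0 = p := by
      rw [MTwelveType.SylowModel.squareDodecad_eq]
      intro p hp
      have : ∃ a b : GolayPt, a ∉ SporadicStructure.M11InvPerms.dd ∧ b ∉ SporadicStructure.M11InvPerms.dd ∧ a ≠ b ∧ a ≠ p ∧ b ≠ p := by
        revert p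
        decide +kernel
      obtain ⟨a, b, ha, hb, hab, hap, hbp⟩ := this
      refine ⟨⟨![p, a, b], ?_⟩, ?_, rfl⟩
      · intro i j hij
        fin_cases i <;> fin_cases j <;> simp_all
      · intro i
        fin_cases i
        · exact hp
        · exact ha
        · exact hb
    obtain ⟨x, hx, hx0⟩ := hex none hn
    obtain ⟨y, hy, hy0⟩ := hex q hq
    obtain ⟨g, hg, hgi⟩ := S0389.result _ hd _ FooteOdd.SporMEleven.zero_mem x y hx hy
    refine ⟨(g : Equiv.Perm GolayPt), (FooteOdd.SporMEleven.equiv ⟨g, hg⟩).2, ?_⟩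
    rw [← hx0, ← hy0]
    exact hgi 0
  · rintro ⟨g, hg, rfl⟩ h
    apply hn
    have h1 : g • Spor.squareDodecad = Spor.squareDodecad := hg.1.2
    rw [← h1] at h
    exact (Finset.smul_mem_smul_finset_iff g).mp h

theorem m11_model [IsSimpleGroup Spor.M11] : NoHall Spor.M11 := by
  have hc : Nat.card Spor.M11 = prodl [(2, 4), (3, 2), (5, 1), (11, 1)] := by
    rw [FooteOdd.SporMEleven.card]; decide +kernel
  exact noHall_of_one S2060.result (by decide +kernel) hc _ 12 m11_index (by norm_num) (by decide +kernel)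
    (by decide +kernel)

theorem m11 {G : Type*} [Group G] [Finite G] [IsSimpleGroup G] (hna : ¬ IsMulCommutative G) (h : Spor.IsoM11 G) :
    NoHall G := by
  obtain ⟨e⟩ := h
  exact row_congr hna e fun _ => m11_model

/-! ### M12 -/

theorem m12_index : (Spor.M11.subgroupOf Spor.M12).index = 12 := by
  have h1 := (Spor.M11.subgroupOf Spor.M12).card_mul_index
  have h2 : Nat.card (Spor.M11.subgroupOf Spor.M12) = 7920 := by
    rw [← FooteOdd.SporMEleven.card]
    exact Nat.card_congr (Subgroup.subgroupOfEquivOfLe (inf_le_left : Spor.M11 ≤ Spor.M12)).toEquiv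
  rw [h2, MTwelveType.SylowModel.card_M12] at h1
  omega

theorem m12_model [Finite Spor.M12] [IsSimpleGroup Spor.M12] (hna : ¬ IsMulCommutative Spor.M12) : NoHall Spor.M12 := by
  have hc : Nat.card Spor.M12 = prodl [(2, 6), (3, 3), (5, 1), (11, 1)] := by
    rw [MTwelveType.SylowModel.card_M12]; decide +kernel
  exact noHall_of_two hna S2061.result (by decide +kernel) hc _ 12 m12_index (by norm_num) (by decide +kernel)
    (by decide +kernel) (by decide +kernel) (r := 11) (by norm_num) (by decide +kernel) (by decide +kernel)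

theorem m12 {G : Type*} [Group G] [Finite G] [IsSimpleGroup G] (hna : ¬ IsMulCommutative G) (h : Spor.IsoM12 G) :
    NoHall G := by
  obtain ⟨e⟩ := h
  exact row_congr hna e m12_model

/-! ### M24 -/

theorem m24_index : (Spor.M23.subgroupOf M24).index = 24 := by
  have h1 := (Spor.M23.subgroupOf M24).card_mul_index
  have h2 : Nat.card (Spor.M23.subgroupOf M24) = 10200960 := by
    rw [← SporadicA.MathieuRecog.card_M23]
    exact Nat.card_congr (Subgroup.subgroupOfEquivOfLe (inf_le_left : Spor.M23 ≤ M24)).toEquiv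
  rw [h2, S0364.result] at h1
  omega

theorem m24_model [IsSimpleGroup M24] : NoHall M24 := by
  have hc : Nat.card M24 = prodl [(2, 10), (3, 3), (5, 1), (7, 1), (11, 1), (23, 1)] := by
    rw [S0364.result]; decide +kernel
  exact noHall_of_one S2064.result (by decide +kernel) hc _ 24 m24_index (by norm_num) (by decide +kernel)
    (by decide +kernel)

theorem m24 {G : Type*} [Group G] [Finite G] [IsSimpleGroup G] (hna : ¬ IsMulCommutative G) (h : Spor.IsoM24 G) :
    NoHall G := by
  obtain ⟨e⟩ := h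
  exact row_congr hna e fun _ => m24_model

/-! ### M22 -/

theorem apply_mem_octad {g : Equiv.Perm GolayPt} {o : Finset GolayPt} (h : g • o = o) {p : GolayPt} :
    g p ∈ o ↔ p ∈ o := by
  have := Finset.smul_mem_smul_finset_iff (s := o) (b := p) g
  rw [h] at this
  exact this

theorem m22_index : (stabilizer Spor.M22 (some 1 : GolayPt)).index = 22 := by
  have hc : (Finset.univ \ {none, some 0} : Finset GolayPt).card = 22 := by decide +kernel
  rw [← hc]
  refine index_stab _ _ _ fun q => ?_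
  rw [Finset.mem_sdiff, and_iff_right (Finset.mem_univ q), Finset.mem_insert, Finset.mem_singleton, not_or]
  constructor
  · rintro ⟨hq1, hq2⟩
    have hex : ∀ p : GolayPt, p ≠ none → p ≠ some 0 → ∃ x : Fin 5 ↪ GolayPt, x 0 = none ∧ x 1 = some 0 ∧ x 2 = p := by
      intro p hp hp0
      have : ∃ a b : GolayPt, a ≠ none ∧ b ≠ none ∧ a ≠ some 0 ∧ b ≠ some 0 ∧ a ≠ b ∧ a ≠ p ∧ b ≠ p := by
        revert p
        decide +kernel
      obtain ⟨a, b, h1, h2, h3, h4, h5, h6, h7⟩ := this
      refine ⟨⟨![none, some 0, p, a, b], ?_⟩, rfl, rfl, rfl⟩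
      intro i j hij
      have h0 : (none : GolayPt) ≠ some 0 := by simp
      fin_cases i <;> fin_cases j <;> first | rfl | (exfalso; simp_all [eq_comm])
    obtain ⟨x, hx0, hx1, hx2⟩ := hex (some 1) (by simp) (by decide +kernel)
    obtain ⟨y, hy0, hy1, hy2⟩ := hex q hq1 hq2
    obtain ⟨g, hg⟩ := S0366.result.exists_smul_eq x y
    have hgi : ∀ i, (g : Equiv.Perm GolayPt) (x i) = y i := fun i => by
      have := congrArg (fun z : Fin 5 ↪ GolayPt => z i) hg
      exact this
    refine ⟨(g : Equiv.Perm GolayPt), (SporadicA.MathieuRecog.mem_M22_iff _).2 ⟨g.2, ?_, ?_⟩, ?_⟩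
    · have := hgi 0; rwa [hx0, hy0] at this
    · have := hgi 1; rwa [hx1, hy1] at this
    · have := hgi 2; rwa [hx2, hy2] at this
  · rintro ⟨g, hg, rfl⟩
    obtain ⟨h1, h2, h3⟩ := (SporadicA.MathieuRecog.mem_M22_iff _).1 hg
    constructor
    · intro h
      have := g.injective (h.trans h2.symm)
      simp at this
    · intro h
      have := g.injective (h.trans h3.symm)
      revert this
      decide +kernel

theorem m22_model [Finite Spor.M22] [IsSimpleGroup Spor.M22] (hna : ¬ IsMulCommutative Spor.M22) : NoHall Spor.M22 := by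
  have hc : Nat.card Spor.M22 = prodl [(2, 7), (3, 2), (5, 1), (7, 1), (11, 1)] := by
    rw [SporadicA.MathieuRecog.card_M22]; decide +kernel
  have hlast : ∀ M : Subgroup Spor.M22, M.index ∈ [11] → False := by
    intro M hM
    rw [List.mem_singleton] at hM
    have h1 := factorial_le_of_prime_index (q := 11) (r := 7) (by norm_num) hM (by norm_num) (by norm_num)
      (by norm_num) (by rw [hc]; decide +kernel)
    rw [SporadicA.MathieuRecog.card_M22] at h1
    have h2 : (11 : ℕ).factorial = 39916800 := by decide +kernel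
    omega
  intro A n hA
  rcases inner_or_two_dvd S2062.result hA with h | h
  · obtain ⟨h1, h2⟩ := ne_bot_top_of_index m22_index (by norm_num) (by rw [hc]; decide +kernel)
    obtain ⟨M, hM1, hM2, -, hM4, -⟩ := hA.hall _ h1 h2 (stab_of_inner h _)
    refine hlast M (index_mem_of_dvd (l := [(2, 7), (3, 2), (5, 1), (7, 1), (11, 1)]) (by decide +kernel) hc 22 [] []
      [11] (by decide +kernel) hM2 hM4 (index_dvd_of_le' hM1 m22_index) ?_ ?_)
    · intro r hr; simp at hr
    · intro r hr; simp at hr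
  · obtain ⟨M, hM2, hM4, hM6, hM7⟩ := exists_hall_even hna hc (by decide +kernel) (r := 5) (by norm_num)
      (by decide +kernel) hA h
    refine hlast M (index_mem_of_dvd (l := [(2, 7), (3, 2), (5, 1), (7, 1), (11, 1)]) (by decide +kernel) hc 0 [5] [2]
      [11] (by decide +kernel) hM2 hM4 (dvd_zero _) ?_ ?_)
    · intro r hr
      rw [List.mem_singleton] at hr
      subst hr
      exact ⟨by norm_num, hM6⟩
    · intro r hr
      rw [List.mem_singleton] at hr
      subst hr
      exact ⟨by norm_num, hM7⟩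

theorem m22 {G : Type*} [Group G] [Finite G] [IsSimpleGroup G] (hna : ¬ IsMulCommutative G) (h : Spor.IsoM22 G) :
    NoHall G := by
  obtain ⟨e⟩ := h
  exact row_congr hna e m22_model

/-! ### M23 -/

/-- the stabiliser of an octad in `M24`, as a group of permutations -/
theorem card_KO {o : Finset GolayPt} (ho : o ∈ octads) :
    Nat.card ↥(M24 ⊓ stabilizer (Equiv.Perm GolayPt) o) = 322560 := by
  rw [← H867.OctadCount.card_stabilizer_octad ho]
  refine Nat.card_congr ⟨fun g => ⟨⟨g.1, g.2.1⟩, g.2.2⟩, fun g => ⟨g.1.1, g.1.2, g.2⟩, fun _ => rfl, fun _ => rfl⟩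

theorem m23_index {o : Finset GolayPt} (ho : o ∈ octads) (hn : (none : GolayPt) ∉ o) :
    (stabilizer Spor.M23 o).index = 506 := by
  have h1 : (stabilizer ↥(M24 ⊓ stabilizer (Equiv.Perm GolayPt) o) (none : GolayPt)).index =
      (Finset.univ \ o : Finset GolayPt).card := by
    refine index_stab _ _ _ fun q => ?_
    rw [Finset.mem_sdiff, and_iff_right (Finset.mem_univ q)]
    constructor
    · intro hq
      obtain ⟨g, hg, h2, h3⟩ := SporadicStructure.M24Frame.exists_smul_octad ho ho hn hq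
      exact ⟨g, ⟨hg, h2⟩, h3⟩
    · rintro ⟨g, hg, rfl⟩ h
      exact hn ((apply_mem_octad hg.2).mp h)
  have h8 : o.card = 8 := (S0363.result.1 o ho)
  have h2 : (Finset.univ \ o : Finset GolayPt).card = 16 := by
    rw [Finset.card_sdiff_of_subset (Finset.subset_univ o), h8, Finset.card_univ]
    rfl
  have h3 := (stabilizer ↥(M24 ⊓ stabilizer (Equiv.Perm GolayPt) o) (none : GolayPt)).card_mul_index
  rw [h1, h2, card_KO ho] at h3
  have h4 : Nat.card (stabilizer Spor.M23 o) = Nat.card (stabilizer ↥(M24 ⊓ stabilizer (Equiv.Perm GolayPt) o) (none : GolayPt)) :=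
    Nat.card_congr ⟨fun g => ⟨⟨g.1.1, g.1.2.1, g.2⟩, g.1.2.2⟩, fun g => ⟨⟨g.1.1, g.1.2.1, g.2⟩, g.1.2.2⟩,
      fun _ => rfl, fun _ => rfl⟩
  have h5 := (stabilizer Spor.M23 o).card_mul_index
  have h6 : Nat.card (stabilizer ↥(M24 ⊓ stabilizer (Equiv.Perm GolayPt) o) (none : GolayPt)) = 20160 := by omega
  rw [h4, h6, SporadicA.MathieuRecog.card_M23] at h5
  omega

theorem m23_model [Finite Spor.M23] [IsSimpleGroup Spor.M23] : NoHall Spor.M23 := by
  have hc : Nat.card Spor.M23 = prodl [(2, 7), (3, 2), (5, 1), (7, 1), (11, 1), (23, 1)] := by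
    rw [SporadicA.MathieuRecog.card_M23]; decide +kernel
  obtain ⟨o, ho, hn⟩ : ∃ o ∈ octads, (none : GolayPt) ∉ o := by
    have h1 : (octads).Nonempty := by
      rw [← Set.ncard_pos (Set.toFinite _), S0360.result]
      norm_num
    obtain ⟨o', ho'⟩ := h1
    have h8 : o'.card = 8 := (S0363.result.1 o' ho')
    obtain ⟨x, hx⟩ : ∃ x, x ∉ o' := by
      by_contra hcon
      push Not at hcon
      rw [Finset.eq_univ_iff_forall.mpr hcon, Finset.card_univ] at h8
      revert h8
      decide +kernel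
    obtain ⟨g, hg, h3, h4⟩ := Golay.Flags.exists_antiflag x o' ho' hx
    refine ⟨g⁻¹ • o', S0367.smul_mem_octads ⟨g⁻¹, M24.inv_mem hg⟩ o' ho', fun h => hx ?_⟩
    rw [Finset.mem_inv_smul_finset_iff] at h
    rwa [← h3]
  intro A n hA
  obtain ⟨h1, h2⟩ := ne_bot_top_of_index (m23_index ho hn) (by norm_num) (by rw [hc]; decide +kernel)
  obtain ⟨M, hM1, hM2, -, hM4, -⟩ := hA.hall _ h1 h2 (stab_of_inner (fun a _ => inner_of_out_one S2063.result a) _)
  have hi : M.index ∈ [23, 253] := by
    refine index_mem_of_dvd (l := [(2, 7), (3, 2), (5, 1), (7, 1), (11, 1), (23, 1)]) (by decide +kernel) hc 506 [] []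
      [23, 253] (by decide +kernel) hM2 hM4 (index_dvd_of_le' hM1 (m23_index ho hn)) ?_ ?_
    · intro r hr; simp at hr
    · intro r hr; simp at hr
  have h23 : 23 ∣ M.index := by
    rcases List.mem_cons.mp hi with h | h
    · rw [h]
    · rw [List.mem_singleton.mp h]; decide
  have hM23 : ¬ 23 ∣ Nat.card M := fun h => by
    have := Nat.dvd_gcd h h23
    rw [hM4] at this
    omega
  -- points
  have hno : ∀ m : Spor.M23, (m : Equiv.Perm GolayPt) none = none := fun m =>
    ((SporadicA.MathieuRecog.mem_M23_iff _).1 m.2).2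
  -- `X` is transitive on `o` and on the other points
  have htro : ∀ p ∈ o, ∀ q ∈ o, ∃ m ∈ M, (m : Equiv.Perm GolayPt) p = q := by
    intro p hp q hq
    obtain ⟨g, hg, h3, h4, h5⟩ := GolayOrbit.Flags.flagInOut ho hp hn
    obtain ⟨k, hk, h3', h4', h5'⟩ := GolayOrbit.Flags.flagInOut ho hq hn
    have e1 : (k * g⁻¹) • o = o := by rw [mul_smul, ← h3, inv_smul_smul, h3', h3]
    have e2 : (k * g⁻¹) none = none := by
      rw [Equiv.Perm.mul_apply, ← h5, SporadicA.M11Comp.pinv_apply, h5']
      exact h5.symm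
    have e3 : (k * g⁻¹) p = q := by
      rw [Equiv.Perm.mul_apply, ← h4, SporadicA.M11Comp.pinv_apply, h4']
    have e4 : k * g⁻¹ ∈ Spor.M23 := (SporadicA.MathieuRecog.mem_M23_iff _).2 ⟨M24.mul_mem hk (M24.inv_mem hg), e2⟩
    exact ⟨⟨_, e4⟩, hM1 e1, e3⟩
  have htrc : ∀ p ∉ o, p ≠ none → ∀ q ∉ o, q ≠ none → ∃ m ∈ M, (m : Equiv.Perm GolayPt) p = q := by
    intro p hp hp0 q hq hq0
    obtain ⟨g, hg, h3, h4, h5⟩ := KFacts.MulCo.OctStab.exists_move ho hn hp hq (Ne.symm hp0) (Ne.symm hq0)
    have e4 : g ∈ Spor.M23 := (SporadicA.MathieuRecog.mem_M23_iff _).2 ⟨hg, h4⟩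
    exact ⟨⟨_, e4⟩, hM1 h3, h5⟩
  -- `M` preserves `o`
  have hMo : ∀ m ∈ M, ∀ p ∈ o, (m : Equiv.Perm GolayPt) p ∈ o := by
    intro m hm p hp
    by_contra hcon
    apply hM23
    -- then `M` is transitive on the 23 points
    have hp0 : p ≠ none := fun h => hn (h ▸ hp)
    have hq0 : (m : Equiv.Perm GolayPt) p ≠ none := fun h =>
      hp0 ((m : Equiv.Perm GolayPt).injective (h.trans (hno m).symm))
    have h3 : (stabilizer ↥(M.map Spor.M23.subtype) p).index = (Finset.univ \ {none} : Finset GolayPt).card := by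
      refine index_stab _ _ _ fun q => ?_
      rw [Finset.mem_sdiff, and_iff_right (Finset.mem_univ q), Finset.mem_singleton]
      constructor
      · intro hq
        by_cases hqo : q ∈ o
        · obtain ⟨k, hk, h4⟩ := htro p hp q hqo
          exact ⟨k, ⟨k, hk, rfl⟩, h4⟩
        · obtain ⟨k, hk, h4⟩ := htrc _ hcon hq0 q hqo hq
          exact ⟨k * m, ⟨k * m, M.mul_mem hk hm, rfl⟩, h4⟩
      · rintro ⟨_, ⟨k, -, rfl⟩, rfl⟩ h
        exact hp0 ((k : Equiv.Perm GolayPt).injective (h.trans (hno k).symm))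
    have h4 : (Finset.univ \ {none} : Finset GolayPt).card = 23 := by decide +kernel
    have h5 : Nat.card ↥(M.map Spor.M23.subtype) = Nat.card M :=
      Nat.card_congr (M.equivMapOfInjective _ Spor.M23.subtype_injective).symm.toEquiv
    rw [← h5, ← h4, ← h3]
    exact Subgroup.index_dvd_card _
  have hMX : M = stabilizer Spor.M23 o := by
    refine le_antisymm (fun m hm => ?_) hM1
    rw [mem_stabilizer_iff]
    apply Finset.eq_of_subset_of_card_le
    · intro x hx
      obtain ⟨y, hy, rfl⟩ := Finset.mem_smul_finset.mp hx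
      exact hMo m hm y hy
    · rw [Finset.card_smul_finset]
  rw [hMX, m23_index ho hn] at hi
  revert hi
  decide

theorem m23 {G : Type*} [Group G] [Finite G] [IsSimpleGroup G] (hna : ¬ IsMulCommutative G) (h : Spor.IsoM23 G) :
    NoHall G := by
  obtain ⟨e⟩ := h
  exact row_congr hna e fun _ => m23_model

end Cfsg.Agent.H964.NoHall
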