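import Cfsg.Agent.H964.NoHall.Gen
import Cfsg.Agent.H964.NoHall.Tr
import Cfsg.Agent.NotCT.Orders
import Cfsg.Agent.Schreier.McLaughlin
import Cfsg.Agent.S0398
import Cfsg.Agent.S0400
import Cfsg.Agent.S1578
import Cfsg.Agent.S1580
import Cfsg.Agent.S1585
import Cfsg.Agent.S2069
import Cfsg.Agent.S2070
import Cfsg.Agent.S2071
import Cfsg.Agent.S2073
import Cfsg.Agent.Co2Type.CardCo2
import Cfsg.Agent.SporadicA.MathieuRecog

/-!
# No Hall systems: McL, Co1, Co2, Co3 (helper964)
-/

set_option autoImplicit false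

namespace Cfsg.Agent.H964.NoHall

open Subgroup Cfsg Cfsg.Agent.H554 Cfsg.Agent.NotCT MulAction

/-! ### M23 in `Co0` -/

/-- The embedding of `M23` into `Co0`. -/
noncomputable def embC : Spor.M23 →* Co0 := SporadicA.Co0Mono.permCo0.comp (Subgroup.inclusion (fun _ hg => hg.1))

theorem embC_coe (g : Spor.M23) (v : leechLattice) (p : GolayPt) :
    ((embC g • v : leechLattice) : GolayPt → ℤ) p = (v : GolayPt → ℤ) ((g : Equiv.Perm GolayPt).symm p) := rfl

theorem m23_symm (g : Spor.M23) (p : GolayPt) : (g : Equiv.Perm GolayPt).symm p = none ↔ p = none := by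
  rw [Equiv.symm_apply_eq]
  have : (g : Equiv.Perm GolayPt) none = none := ((SporadicA.MathieuRecog.mem_M23_iff _).1 g.2).2
  rw [this]

theorem embC_injective : Function.Injective embC := by
  rw [injective_iff_map_eq_one]
  intro g hg
  apply Subtype.ext
  apply Equiv.ext
  intro i
  show (g : Equiv.Perm GolayPt) i = i
  let v : leechLattice := ⟨_, AddSubgroup.subset_closure (Schreier.McLaughlin.eight_mem i)⟩
  have h1 : embC g • v = v := by rw [hg, one_smul]
  have h2 : ((embC g • v : leechLattice) : GolayPt → ℤ) ((g : Equiv.Perm GolayPt) i) =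
      (v : GolayPt → ℤ) ((g : Equiv.Perm GolayPt) i) := by rw [h1]
  rw [embC_coe, Equiv.symm_apply_apply] at h2
  have h3 : (if i = i then (8 : ℤ) else 0) = if (g : Equiv.Perm GolayPt) i = i then (8 : ℤ) else 0 := h2
  by_contra hne
  rw [if_pos rfl, if_neg hne] at h3
  exact absurd h3 (by norm_num)

theorem embC_V (g : Spor.M23) : embC g • Spor.leechV = Spor.leechV := by
  apply Subtype.ext
  funext p
  rw [embC_coe]
  show Spor.vecV _ = Spor.vecV _
  simp only [Spor.vecV, m23_symm g p]

/-- The vector `(-3, 1²³)`. -/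
def vecW : GolayPt → ℤ := fun p => if p = none then -3 else 1

theorem vecW_mem : vecW ∈ leechSet :=
  Spor.mem_leechSet_of_const_mod_four vecW 1 1 (by decide) (by decide) (by decide)

/-- The vector `(-3, 1²³)` in the Leech lattice. -/
def leechW : leechLattice := ⟨vecW, AddSubgroup.subset_closure vecW_mem⟩

theorem embC_W (g : Spor.M23) : embC g • leechW = leechW := by
  apply Subtype.ext
  funext p
  rw [embC_coe]
  show vecW _ = vecW _
  simp only [vecW, m23_symm g p]

/-! ### Co3 -/

theorem co3_exists : ∃ X : Subgroup Spor.Co3, Nat.card X = 10200960 := by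
  let f : Spor.M23 →* Spor.Co3 :=
    (Co0.subtype.comp embC).codRestrict Spor.Co3 (fun g => ⟨(embC g).2, embC_V g⟩)
  have hf : Function.Injective f := by
    intro a b h
    apply embC_injective
    exact Subtype.ext (congrArg (fun z : Spor.Co3 => (z : Equiv.Perm leechLattice)) h)
  refine ⟨f.range, ?_⟩
  rw [← SporadicA.MathieuRecog.card_M23]
  exact (Nat.card_congr (MonoidHom.ofInjective hf).toEquiv).symm

theorem co3_model [Finite Spor.Co3] [IsSimpleGroup Spor.Co3] : NoHall Spor.Co3 := by
  have hc0 : Nat.card Spor.Co3 = 495766656000 := Orders.co3 ⟨MulEquiv.refl _⟩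
  have hc : Nat.card Spor.Co3 = prodl [(2, 10), (3, 7), (5, 3), (7, 1), (11, 1), (23, 1)] := by
    rw [hc0]; decide +kernel
  obtain ⟨X, hX⟩ := co3_exists
  have hi : X.index = 48600 := by
    have := X.card_mul_index
    rw [hX, hc0] at this
    omega
  exact noHall_of_one S2071.result (by decide +kernel) hc X 48600 hi (by norm_num) (by decide +kernel)
    (by decide +kernel)

theorem co3 {G : Type*} [Group G] [Finite G] [IsSimpleGroup G] (hna : ¬ IsMulCommutative G) (h : Spor.IsoCo3 G) :
    NoHall G := by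
  obtain ⟨e⟩ := h
  exact row_congr hna e fun _ => co3_model

/-! ### Co2 -/

theorem co2_exists : ∃ X : Subgroup Spor.Co2, Nat.card X = 10200960 := by
  obtain ⟨k, hk⟩ := S0400.result leechW Spor.leechU (by show sqNorm vecW = 32; decide) (by
    show sqNorm Spor.vecU = 32; decide)
  have hk' : k⁻¹ • Spor.leechU = leechW := by rw [← hk, inv_smul_smul]
  have hfix : ∀ g : Spor.M23, (k * embC g * k⁻¹) • Spor.leechU = Spor.leechU := by
    intro g
    rw [mul_smul, mul_smul, hk', embC_W, hk]
  let f : Spor.M23 →* Spor.Co2 :=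
    (Co0.subtype.comp ((MulAut.conj k).toMonoidHom.comp embC)).codRestrict Spor.Co2
      (fun g => ⟨((MulAut.conj k).toMonoidHom (embC g)).2, hfix g⟩)
  have hf : Function.Injective f := by
    intro a b h
    apply embC_injective
    apply (MulAut.conj k).injective
    exact Subtype.ext (congrArg (fun z : Spor.Co2 => (z : Equiv.Perm leechLattice)) h)
  refine ⟨f.range, ?_⟩
  rw [← SporadicA.MathieuRecog.card_M23]
  exact (Nat.card_congr (MonoidHom.ofInjective hf).toEquiv).symm

theorem co2_model [Finite Spor.Co2] [IsSimpleGroup Spor.Co2] : NoHall Spor.Co2 := by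
  have hc0 : Nat.card Spor.Co2 = 42305421312000 := Co2Type.CardCo2.card_co2
  have hc : Nat.card Spor.Co2 = prodl [(2, 18), (3, 6), (5, 3), (7, 1), (11, 1), (23, 1)] := by
    rw [hc0]; decide +kernel
  obtain ⟨X, hX⟩ := co2_exists
  have hi : X.index = 4147200 := by
    have := X.card_mul_index
    rw [hX, hc0] at this
    omega
  exact noHall_of_one S2070.result (by decide +kernel) hc X 4147200 hi (by norm_num) (by decide +kernel)
    (by decide +kernel)

theorem co2 {G : Type*} [Group G] [Finite G] [IsSimpleGroup G] (hna : ¬ IsMulCommutative G) (h : Spor.IsoCo2 G) :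
    NoHall G := by
  obtain ⟨e⟩ := h
  exact row_congr hna e fun _ => co2_model

/-! ### Co1 -/

theorem co1_exists : ∃ X : Subgroup Spor.Co1, Nat.card X = 42305421312000 := by
  let H : Subgroup Co0 := stabilizer Co0 Spor.leechU
  have hH : Nat.card H = 42305421312000 := by
    rw [← Co2Type.CardCo2.card_co2, ← Co2Type.CardCo2.map_stabilizer,
      Subgroup.card_map_of_injective Co0.subtype_injective]
  let f : H →* Spor.Co1 := (QuotientGroup.mk' (center Co0)).comp H.subtype
  have hf : Function.Injective f := by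
    rw [injective_iff_map_eq_one]
    intro g hg
    have h1 : (g : Co0) ∈ center Co0 := (QuotientGroup.eq_one_iff _).mp hg
    rcases SporadicA.Co0Basic.eq_one_or_neg_of_mem_center h1 with h2 | h2
    · exact Subtype.ext h2
    · exfalso
      have h3 : (g : Co0) • Spor.leechU = Spor.leechU := g.2
      rw [h2] at h3
      have h4 : (-Spor.leechU : leechLattice) = Spor.leechU := h3
      have h5 := congrArg (fun z : leechLattice => (z : GolayPt → ℤ) none) h4
      change -Spor.vecU none = Spor.vecU none at h5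
      revert h5
      decide
  refine ⟨f.range, ?_⟩
  rw [← hH]
  exact (Nat.card_congr (MonoidHom.ofInjective hf).toEquiv).symm

theorem co1_model [Finite Spor.Co1] [IsSimpleGroup Spor.Co1] : NoHall Spor.Co1 := by
  have hc0 : Nat.card Spor.Co1 = 4157776806543360000 := Orders.co1 ⟨MulEquiv.refl _⟩
  have hc : Nat.card Spor.Co1 = prodl [(2, 21), (3, 9), (5, 4), (7, 2), (11, 1), (13, 1), (23, 1)] := by
    rw [hc0]; decide +kernel
  obtain ⟨X, hX⟩ := co1_exists
  have hi : X.index = 98280 := by
    have := X.card_mul_index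
    rw [hX, hc0] at this
    omega
  exact noHall_of_one S2069.result (by decide +kernel) hc X 98280 hi (by norm_num) (by decide +kernel)
    (by decide +kernel)

theorem co1 {G : Type*} [Group G] [Finite G] [IsSimpleGroup G] (hna : ¬ IsMulCommutative G) (h : Spor.IsoCo1 G) :
    NoHall G := by
  obtain ⟨e⟩ := h
  exact row_congr hna e fun _ => co1_model

/-! ### McL -/

theorem mcl_exists : ∃ X : Subgroup Spor.McL, X.index = 275 := by
  let v : leechLattice := -Spor.leechU
  let T : Set leechLattice := {x : leechLattice | sqNorm (x : GolayPt → ℤ) = 32 ∧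
    sqNorm ((Spor.leechV - x) : GolayPt → ℤ) = 32 ∧ dotInt (v : GolayPt → ℤ) (x : GolayPt → ℤ) = 16}
  have hres := S1580.result Spor.leechV v (by show sqNorm Spor.vecV = 48; decide) ⟨by
    show sqNorm (-Spor.vecU) = 32; decide, by show sqNorm (Spor.vecV - (-Spor.vecU)) = 32; decide⟩
  obtain ⟨hT, htr⟩ := hres
  obtain ⟨x, hx⟩ : T.Nonempty := by
    rw [← Set.ncard_pos (Set.finite_of_ncard_ne_zero (by rw [hT]; norm_num)), hT]
    norm_num
  refine ⟨stabilizer Spor.McL x, ?_⟩
  rw [index_stabilizer]
  have hfix : ∀ g : Spor.McL, ((⟨g.1, g.2.1.1⟩ : Co0) • Spor.leechV = Spor.leechV) ∧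
      ((⟨g.1, g.2.1.1⟩ : Co0) • v = v) := by
    intro g
    refine ⟨g.2.1.2, ?_⟩
    change (⟨g.1, g.2.1.1⟩ : Co0) • (-Spor.leechU) = -Spor.leechU
    rw [S1585.smul_neg']
    congr 1
    exact g.2.2
  have : orbit Spor.McL x = T := by
    ext y
    constructor
    · rintro ⟨g, rfl⟩
      obtain ⟨h1, h2⟩ := hfix g
      obtain ⟨hx1, hx2, hx3⟩ := hx
      change (⟨g.1, g.2.1.1⟩ : Co0) • x ∈ T
      generalize (⟨g.1, g.2.1.1⟩ : Co0) = k at h1 h2
      refine ⟨?_, ?_, ?_⟩
      · rw [S1585.sqNorm_smul']; exact hx1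
      · have h3 : Spor.leechV - k • x = k • (Spor.leechV - x) := by rw [S1578.smul_sub', h1]
        have h4 : ((Spor.leechV : GolayPt → ℤ) - ((k • x : leechLattice) : GolayPt → ℤ)) =
            ((k • (Spor.leechV - x) : leechLattice) : GolayPt → ℤ) := by
          rw [← h3]; rfl
        rw [h4, S1585.sqNorm_smul']
        exact hx2
      · have h3 := S1585.dotInt_smul' k v x
        rw [h2] at h3
        rw [h3]
        exact hx3
    · intro hy
      obtain ⟨g, h1, h2, h3⟩ := htr x hx y hy
      refine ⟨⟨g.1, ⟨⟨g.2, h1⟩, ?_⟩⟩, h3⟩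
      have h4 : g • Spor.leechU = Spor.leechU := by
        have h5 : g • (-Spor.leechU) = -Spor.leechU := h2
        rw [S1585.smul_neg'] at h5
        exact neg_injective h5
      exact h4
  rw [this]
  exact hT

theorem mcl_model [Finite Spor.McL] [IsSimpleGroup Spor.McL] (hna : ¬ IsMulCommutative Spor.McL) :
    NoHall Spor.McL := by
  have hc : Nat.card Spor.McL = prodl [(2, 7), (3, 6), (5, 3), (7, 1), (11, 1)] := by
    rw [Schreier.McLaughlin.card_mcl]; decide +kernel
  obtain ⟨X, hX⟩ := mcl_exists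
  exact noHall_of_two hna S2073.result (by decide +kernel) hc X 275 hX (by norm_num) (by decide +kernel)
    (by decide +kernel) (by decide +kernel) (r := 5) (by norm_num) (by decide +kernel) (by decide +kernel)

theorem mcl {G : Type*} [Group G] [Finite G] [IsSimpleGroup G] (hna : ¬ IsMulCommutative G) (h : Spor.IsoMcL G) :
    NoHall G := by
  obtain ⟨e⟩ := h
  exact row_congr hna e mcl_model

end Cfsg.Agent.H964.NoHall
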