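import Cfsg.Agent.S5551
import Cfsg.Agent.H848.Dual
import Cfsg.Agent.ConwayFacts.AutCo1
import Cfsg.Agent.MonsterU.Chart

/-!
# Small actions of groups with a chart (helper964)

`no_three` : there are no three linearly independent vectors of type 2 in `Λ/2Λ` all of whose sums are of type 2.
`fix_of_card_lt` : in an action on fewer than `2 ^ 23` points, of a group with a chart, `z` acts trivially.
-/

set_option autoImplicit false

namespace Cfsg.Agent.H964.NoHall.MonA

open Cfsg Cfsg.Spor Cfsg.Agent.MonsterU.Lam2 Cfsg.Agent.MonsterU.Ch Cfsg.Agent.H848.Dual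
open Cfsg.Agent.Leech.Basic (sqNorm_add sqNorm_sub sqNorm_neg dotInt_neg_right dotInt_comm dotInt_add_left)

/-! ### the lattice -/

theorem norm_eq {v w : leechLattice} (hv : v ≠ 0) (hw : w ≠ 0) (hvn : sqNorm (v : GolayPt → ℤ) ≤ 64)
    (hwn : sqNorm (w : GolayPt → ℤ) ≤ 64) (hc : cl v = cl w) :
    sqNorm (v : GolayPt → ℤ) = sqNorm (w : GolayPt → ℤ) := by
  obtain ⟨u, hu⟩ := cl_eq.1 hc
  exact (Cfsg.Agent.S5551.result v w v.2 w.2 (fun h => hv (Subtype.ext h)) (fun h => hw (Subtype.ext h)) hvn hwn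
    ⟨u, u.2, congrArg Subtype.val hu⟩).1

theorem add_dot {v w : leechLattice} (hv : sqNorm (v : GolayPt → ℤ) = 32) (hw : sqNorm (w : GolayPt → ℤ) = 32)
    (h : IsType 2 (cl v + cl w)) (hd : dotInt (v : GolayPt → ℤ) (w : GolayPt → ℤ) ≤ 0) :
    dotInt (v : GolayPt → ℤ) (w : GolayPt → ℤ) = -16 := by
  obtain ⟨u, hu, huc⟩ := h
  have h0 := Cfsg.Agent.ConwayFacts.NormL2.ne_zero_of_type (Or.inl rfl) (⟨u, hu, huc⟩ : IsType 2 (cl v + cl w))
  have h1 : sqNorm ((v + w : leechLattice) : GolayPt → ℤ) = 64 + 2 * dotInt (v : GolayPt → ℤ) (w : GolayPt → ℤ) := by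
    rw [AddSubgroup.coe_add, sqNorm_add, hv, hw]; ring
  have h2 := norm_eq (v := u) (w := v + w) (by
      rintro rfl
      apply h0
      rw [← huc, map_zero]) (by
      intro h3
      apply h0
      rw [← map_add, h3, map_zero]) (by rw [hu]; norm_num) (by rw [h1]; omega) (by rw [huc, map_add])
  rw [hu, h1] at h2
  omega

theorem neg_rep {v : leechLattice} (hv : sqNorm (v : GolayPt → ℤ) = 32) {y : L2} (hy : IsType 2 y)
    (h : IsType 2 (cl v + y)) : ∃ w : leechLattice, sqNorm (w : GolayPt → ℤ) = 32 ∧ cl w = y ∧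
      dotInt (v : GolayPt → ℤ) (w : GolayPt → ℤ) = -16 := by
  obtain ⟨w, hw, rfl⟩ := hy
  by_cases hd : dotInt (v : GolayPt → ℤ) (w : GolayPt → ℤ) ≤ 0
  · exact ⟨w, by rw [hw]; norm_num, rfl, add_dot hv (by rw [hw]; norm_num) h hd⟩
  · have h1 : sqNorm ((-w : leechLattice) : GolayPt → ℤ) = 32 := by
      rw [AddSubgroup.coe_neg, sqNorm_neg, hw]; norm_num
    refine ⟨-w, h1, cl_neg w, ?_⟩
    refine add_dot hv h1 (by rw [cl_neg]; exact h) ?_
    rw [AddSubgroup.coe_neg, dotInt_neg_right]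
    omega

theorem dot_pm {v w : leechLattice} (hv : sqNorm (v : GolayPt → ℤ) = 32) (hw : sqNorm (w : GolayPt → ℤ) = 32)
    (h : IsType 2 (cl v + cl w)) :
    dotInt (v : GolayPt → ℤ) (w : GolayPt → ℤ) = -16 ∨ dotInt (v : GolayPt → ℤ) (w : GolayPt → ℤ) = 16 := by
  by_cases hd : dotInt (v : GolayPt → ℤ) (w : GolayPt → ℤ) ≤ 0
  · exact Or.inl (add_dot hv hw h hd)
  · have h1 : sqNorm ((-w : leechLattice) : GolayPt → ℤ) = 32 := by
      rw [AddSubgroup.coe_neg, sqNorm_neg, hw]
    have h2 := add_dot hv h1 (by rw [cl_neg]; exact h) (by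
      rw [AddSubgroup.coe_neg, dotInt_neg_right]
      omega)
    rw [AddSubgroup.coe_neg, dotInt_neg_right] at h2
    right; omega

/-- **No three independent vectors all of whose sums are of type 2.** -/
theorem no_three {x y w : L2} (hx : IsType 2 x) (hy : IsType 2 y) (hw : IsType 2 w) (hxy : IsType 2 (x + y))
    (hxw : IsType 2 (x + w)) (hyw : IsType 2 (y + w)) (hxyw : IsType 2 (x + y + w)) : False := by
  obtain ⟨X, hX, rfl⟩ := hx
  have hX' : sqNorm (X : GolayPt → ℤ) = 32 := by rw [hX]; norm_num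
  obtain ⟨Y, hY, rfl, hXY⟩ := neg_rep hX' hy hxy
  obtain ⟨Z, hZ, rfl, hXZ⟩ := neg_rep hX' hw hxw
  have hYZ := dot_pm hY hZ hyw
  have h0 := Cfsg.Agent.ConwayFacts.NormL2.ne_zero_of_type (Or.inl rfl) hxyw
  obtain ⟨u, hu, huc⟩ := hxyw
  have h1 : sqNorm ((X + Y + Z : leechLattice) : GolayPt → ℤ) = 32 + 2 * dotInt (Y : GolayPt → ℤ) (Z : GolayPt → ℤ) := by
    rw [AddSubgroup.coe_add, AddSubgroup.coe_add, sqNorm_add, sqNorm_add, hX', hY, hZ, hXY, dotInt_add_left, hXZ]
    ring
  have hne : X + Y + Z ≠ 0 := by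
    intro h
    apply h0
    rw [← map_add, ← map_add, h, map_zero]
  have h2 : sqNorm ((X + Y + Z : leechLattice) : GolayPt → ℤ) ≠ 0 := by
    intro h
    have h3 := Cfsg.Agent.S0391.result (X + Y + Z : leechLattice) (X + Y + Z : leechLattice).2
      (fun h => hne (Subtype.ext h))
    omega
  have h3 := norm_eq (v := u) (w := X + Y + Z) (by
      rintro rfl
      apply h0
      rw [← huc, map_zero]) hne (by rw [hu]; norm_num) (by rw [h1]; omega) (by rw [huc, map_add, map_add])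
  rw [hu, h1] at h3
  omega


/-! ### the action -/

variable {G : Type*} [Group G] {Q : Subgroup G} {z : G} {eta : G → L2}
  {pi : Subgroup.centralizer ({z} : Set G) →* Co1}

open Classical in
/-- **Small actions**: `z` acts trivially on fewer than `2 ^ 23` points. -/
theorem fix_of_card_lt (h : Chart Q z eta pi) {Ω : Type*} [Finite Ω] [MulAction G Ω] (hΩ : Nat.card Ω < 2 ^ 23)
    (ω : Ω) : z • ω = ω := by
  by_contra hz
  have hQfin := h.fin
  have hcQ := h.card_Q
  -- the stabilisers in `Q`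
  let A : Ω → Subgroup G := fun o => Q ⊓ MulAction.stabilizer G o
  have hAfin : ∀ o, Finite (A o) := fun o => Finite.of_injective (fun x : A o => (⟨x.1, x.2.1⟩ : Q))
    (fun x y hxy => Subtype.ext (congrArg (fun q : Q => (q : G)) hxy))
  -- orbits of `Q`
  have horb : ∀ o, (MulAction.orbit Q o).ncard * Nat.card (A o) = 2 ^ 25 := by
    intro o
    rw [← hcQ, ← Nat.card_congr (MulAction.orbitProdStabilizerEquivGroup Q o), Nat.card_prod, Nat.card_coe_set_eq]
    congr 1
    exact Nat.card_congr ⟨fun x => ⟨⟨x.1, x.2.1⟩, x.2.2⟩, fun x => ⟨x.1.1, x.1.2, x.2⟩, fun x => rfl, fun x => rfl⟩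
  have hconj : ∀ g : G, g * z = z * g → ∀ o, ∀ a ∈ A o, g * a * g⁻¹ ∈ A (g • o) := by
    intro g hg o a ha
    refine ⟨h.large.conj_mem g hg a ha.1, ?_⟩
    have h1 : a • o = o := ha.2
    show (g * a * g⁻¹) • g • o = g • o
    rw [smul_smul, inv_mul_cancel_right, mul_smul, h1]
  have hcard : ∀ g : G, g * z = z * g → ∀ o, Nat.card (A (g • o)) = Nat.card (A o) := by
    intro g hg o
    have hg' : g⁻¹ * z = z * g⁻¹ := by
      rw [inv_mul_eq_iff_eq_mul, ← mul_assoc, hg, mul_inv_cancel_right]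
    refine Nat.card_congr ⟨fun a => ⟨g⁻¹ * a * g, ?_⟩, fun a => ⟨g * a * g⁻¹, hconj g hg o a a.2⟩, ?_, ?_⟩
    · have h1 := hconj g⁻¹ hg' (g • o) a a.2
      rwa [inv_smul_smul, inv_inv] at h1
    · intro a
      apply Subtype.ext
      change g * (g⁻¹ * (a : G) * g) * g⁻¹ = a
      group
    · intro a
      apply Subtype.ext
      change g⁻¹ * (g * (a : G) * g⁻¹) * g = a
      group
  have hA1 : ∀ a ∈ A ω, eta a = 0 → a = 1 := by
    intro a ha h0
    rcases (h.eta_zero a ha.1).1 h0 with h1 | h1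
    · exact h1
    · exact absurd (h1 ▸ ha.2 : z ∈ MulAction.stabilizer G ω) hz
  have hA2 : ∀ a ∈ A ω, qf (eta a) = 0 := by
    intro a ha
    rw [← h.sq_one ha.1]
    apply hA1 _ ((A ω).mul_mem ha ha)
    rw [h.eta_mul a ha.1 a ha.1, add_self]
  have hinj : ∀ a ∈ A ω, ∀ b ∈ A ω, eta a = eta b → a = b := by
    intro a ha b hb hab
    have h1 := hA1 (a * b⁻¹) ((A ω).mul_mem ha ((A ω).inv_mem hb)) (by
      rw [h.eta_mul a ha.1 b⁻¹ (Q.inv_mem hb.1), h.eta_inv hb.1, hab, add_self])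
    exact mul_inv_eq_one.mp h1
  let U : AddSubgroup L2 :=
    { carrier := {x | ∃ a ∈ A ω, eta a = x}
      zero_mem' := ⟨1, (A ω).one_mem, h.eta_one⟩
      add_mem' := by
        rintro _ _ ⟨a, ha, rfl⟩ ⟨b, hb, rfl⟩
        exact ⟨a * b, (A ω).mul_mem ha hb, h.eta_mul a ha.1 b hb.1⟩
      neg_mem' := by
        rintro _ ⟨a, ha, rfl⟩
        exact ⟨a, ha, (neg_eq _).symm⟩ }
  have hcU : Nat.card U = Nat.card (A ω) := by
    refine (Nat.card_congr (Equiv.ofBijective (fun a : A ω => (⟨eta a, a, a.2, rfl⟩ : U)) ⟨?_, ?_⟩)).symm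
    · intro a b hab
      exact Subtype.ext (hinj a a.2 b b.2 (congrArg Subtype.val hab))
    · rintro ⟨_, a, ha, rfl⟩
      exact ⟨⟨a, ha⟩, rfl⟩
  have hUq : ∀ x ∈ U, qf x = 0 := by
    rintro _ ⟨a, ha, rfl⟩
    exact hA2 a ha
  have hUb : U ≤ perp U := by
    intro x hx
    rw [mem_perp]
    intro y hy
    rw [bf, hUq _ (U.add_mem hx hy), hUq x hx, hUq y hy, add_zero, add_zero]
  have hU12 : Nat.card (A ω) ≤ 2 ^ 12 := by
    have h1 := card_perp U
    have h2 := AddSubgroup.card_le_of_le hUb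
    rw [hcU] at h1 h2
    by_contra hlt
    push Not at hlt
    have h3 : 2 ^ 24 < Nat.card (perp U) * Nat.card (A ω) := by
      calc 2 ^ 24 = 2 ^ 12 * 2 ^ 12 := by norm_num
        _ < Nat.card (perp U) * Nat.card (A ω) := by
          apply Nat.mul_lt_mul'' <;> omega
    omega
  have hUt : ∀ x ∈ U, x ≠ 0 → IsType 2 x ∨ IsType 4 x := by
    intro x hx h0
    rcases type_cases x with h1 | h1 | h1 | h1
    · exact absurd h1 h0
    · exact Or.inl h1
    · have h2 := qf_of_type h1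
      rw [hUq x hx] at h2
      exact absurd h2 (by decide)
    · exact Or.inr h1
  by_cases h4 : ∃ x ∈ U, IsType 4 x
  · -- a vector of type 4
    obtain ⟨_, ⟨s, hs, rfl⟩, hs4⟩ := h4
    have : Fintype Ω := Fintype.ofFinite Ω
    have : Fintype L2 := Fintype.ofFinite L2
    let T : Finset L2 := Finset.univ.filter fun x => IsType 4 x
    let O : Finset Ω := Finset.univ.filter fun o => Nat.card (A o) = Nat.card (A ω)
    let r : L2 → Ω → Prop := fun x o => ∃ a ∈ A o, eta a = x
    have hT : T.card = 8292375 := by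
      rw [← Cfsg.Agent.ConwayFacts.NormL2.ncard_four, ← Set.ncard_coe_finset]
      congr 1
      ext x
      simp [T]
    have hO : O.card < 2 ^ 23 := by
      refine lt_of_le_of_lt (Finset.card_le_univ O) ?_
      rwa [← Nat.card_eq_fintype_card]
    have h1 : ∀ x ∈ T, (MulAction.orbit Q ω).ncard ≤ (O.bipartiteAbove r x).card := by
      intro x hx
      have hx4 : IsType 4 x := (Finset.mem_filter.mp hx).2
      obtain ⟨g, hg⟩ := IsType.trans (Or.inr (Or.inr rfl)) hs4 hx4
      obtain ⟨c, hc⟩ := h.pi_surj (QuotientGroup.mk g)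
      have hcz : (c : G) * z = z * c := Subgroup.mem_centralizer_singleton_iff.1 c.2
      have hs1 : (c : G) * s * (c : G)⁻¹ ∈ A ((c : G) • ω) := hconj c hcz ω s hs
      have hs2 : eta ((c : G) * s * (c : G)⁻¹) = x := by
        rw [h.eta_conj c s hs.1, hc, mk_smul, hg]
      have h2 : (MulAction.orbit Q ((c : G) • ω)).ncard = (MulAction.orbit Q ω).ncard := by
        have h3 := horb ((c : G) • ω)
        rw [hcard c hcz ω, ← horb ω] at h3
        exact Nat.eq_of_mul_eq_mul_right Nat.card_pos h3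
      rw [← h2, ← Set.ncard_coe_finset]
      refine Set.ncard_le_ncard ?_ (Set.toFinite _)
      rintro _ ⟨q, rfl⟩
      have hqz : (q : G) * z = z * q := h.large.comm_z q q.2
      rw [Finset.mem_coe, Finset.mem_bipartiteAbove, Finset.mem_filter]
      refine ⟨⟨Finset.mem_univ _, ?_⟩, (q : G) * ((c : G) * s * (c : G)⁻¹) * (q : G)⁻¹, hconj q hqz _ _ hs1, ?_⟩
      · exact (hcard q hqz _).trans (hcard c hcz ω)
      · rw [h.eta_mul _ (Q.mul_mem q.2 hs1.1) _ (Q.inv_mem q.2), h.eta_mul _ q.2 _ hs1.1, h.eta_inv q.2, hs2,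
          add_comm (eta q), add_assoc, add_self, add_zero]
    have h2 : ∀ o ∈ O, (T.bipartiteBelow r o).card ≤ Nat.card (A ω) := by
      intro o ho
      have hoA : Nat.card (A o) = Nat.card (A ω) := (Finset.mem_filter.mp ho).2
      have := hAfin o
      have : Fintype (A o) := Fintype.ofFinite _
      rw [← hoA, Nat.card_eq_fintype_card]
      refine le_trans (Finset.card_le_card (t := (Finset.univ : Finset (A o)).image fun a : A o => eta (a : G)) ?_)
        Finset.card_image_le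
      intro x hx
      obtain ⟨-, a, ha, hax⟩ := (Finset.mem_bipartiteBelow r).mp hx
      exact Finset.mem_image.mpr ⟨⟨a, ha⟩, Finset.mem_univ _, hax⟩
    have h3 := Finset.card_mul_le_card_mul r h1 h2
    have h4 : T.card * 2 ^ 25 ≤ O.card * (Nat.card (A ω) * Nat.card (A ω)) := by
      rw [← horb ω, ← mul_assoc, ← mul_assoc]
      exact Nat.mul_le_mul_right _ h3
    have h5 : O.card * (Nat.card (A ω) * Nat.card (A ω)) ≤ 2 ^ 23 * (2 ^ 12 * 2 ^ 12) :=
      Nat.mul_le_mul hO.le (Nat.mul_le_mul hU12 hU12)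
    rw [hT] at h4
    have h6 := h4.trans h5
    norm_num at h6
  · -- all vectors of type 2
    push Not at h4
    have hU2 : ∀ x ∈ U, x ≠ 0 → IsType 2 x := fun x hx h0 => (hUt x hx h0).resolve_right (h4 x hx)
    have hU4 : Nat.card (A ω) ≤ 4 := by
      by_contra hlt
      push Not at hlt
      rw [← hcU] at hlt
      have hU : (U : Set L2).ncard = Nat.card U := rfl
      obtain ⟨x, hx, hx'⟩ : ∃ x ∈ (U : Set L2), x ∉ ({0} : Set L2) :=
        Set.exists_mem_notMem_of_ncard_lt_ncard (by rw [Set.ncard_singleton, hU]; omega)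
      obtain ⟨y, hy, hy'⟩ : ∃ y ∈ (U : Set L2), y ∉ ({0, x} : Set L2) :=
        Set.exists_mem_notMem_of_ncard_lt_ncard (by
          have := Set.ncard_insert_le (0 : L2) {x}
          rw [Set.ncard_singleton] at this
          rw [hU]; omega)
      obtain ⟨w, hw, hw'⟩ : ∃ w ∈ (U : Set L2), w ∉ ({0, x, y, x + y} : Set L2) :=
        Set.exists_mem_notMem_of_ncard_lt_ncard (by
          have h1 := Set.ncard_insert_le (0 : L2) {x, y, x + y}
          have h2 := Set.ncard_insert_le x {y, x + y}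
          have h3 := Set.ncard_insert_le y {x + y}
          rw [Set.ncard_singleton] at h3
          rw [hU]; omega)
      simp only [Set.mem_singleton_iff, Set.mem_insert_iff, not_or] at hx' hy' hw'
      have hne : ∀ {a b : L2}, b ≠ a → a + b ≠ 0 := fun hab h => hab (eq_of_add_eq_zero h).symm
      refine no_three (hU2 x hx hx') (hU2 y hy hy'.1) (hU2 w hw hw'.1) (hU2 _ (U.add_mem hx hy) (hne hy'.2))
        (hU2 _ (U.add_mem hx hw) (hne hw'.2.1)) (hU2 _ (U.add_mem hy hw) (hne hw'.2.2.1))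
        (hU2 _ (U.add_mem (U.add_mem hx hy) hw) (hne hw'.2.2.2))
    have h1 := horb ω
    have h2 : (MulAction.orbit Q ω).ncard ≤ Nat.card Ω := by
      rw [← Set.ncard_univ]
      exact Set.ncard_le_ncard (Set.subset_univ _) (Set.toFinite _)
    have h3 : (MulAction.orbit Q ω).ncard * Nat.card (A ω) < 2 ^ 25 := by
      calc (MulAction.orbit Q ω).ncard * Nat.card (A ω) ≤ (MulAction.orbit Q ω).ncard * 4 := Nat.mul_le_mul_left _ hU4
        _ < 2 ^ 25 := by omega
    omega

end Cfsg.Agent.H964.NoHall.MonA
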