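import Cfsg.Agent.H964.NoHall.BabyT
import Cfsg.Agent.H964.NoHall.Gen
import Cfsg.Agent.H964.NoHall.Tr
import Cfsg.Agent.BM.KHAll
import Cfsg.Agent.BM.StageWConj
import Cfsg.Agent.S2084

/-!
# No Hall systems: the Baby Monster (helper964)

A proper subgroup containing the centralizer of a transposition has even index.
-/

set_option autoImplicit false

namespace Cfsg.Agent.H964.NoHall

open Subgroup Cfsg Cfsg.Agent.H554 MulAction

section

open Cfsg.Agent.BabyM.Model Cfsg.Agent.BabyM.Inst Cfsg.Agent.BabyM.Conc Cfsg.Agent.BabyM.InstMem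
  Cfsg.Agent.BM.StageW Cfsg.Agent.H964.NoHall.BabyN Cfsg.Spor Cfsg.Spor.BabyMonster

local notation "A₀" => Cfsg.Agent.BabyM.Instance.all
local notation "O₀" => Cfsg.Agent.BabyM.Instance.ok
local notation "B₀" => Cfsg.Agent.BabyM.Instance.tr

theorem baby_label (s t : Gen) : coxLabel edges s t = 3 ∨ (coxLabel edges s t = 2 ∨ s = t) := by
  cases s <;> cases t <;> decide

theorem baby_comm {s t : Gen} (h : coxLabel edges s t ≠ 3) : x s * x t = x t * x s := by
  rcases baby_label s t with h1 | h1 | h1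
  · exact absurd h1 h
  · have h2 := cox A₀ O₀ s t
    rw [h1] at h2
    have hs := sq A₀ O₀ s
    have ht := sq A₀ O₀ t
    have hs' : (x s)⁻¹ = x s := inv_eq_of_mul_eq_one_left hs
    have ht' : (x t)⁻¹ = x t := inv_eq_of_mul_eq_one_left ht
    have h3 : (x s * x t)⁻¹ = x s * x t := inv_eq_of_mul_eq_one_left (by rw [← pow_two]; exact h2)
    rw [← h3, mul_inv_rev, hs', ht']
  · rw [h1]

theorem baby_x_ne_one (t : Gen) : x t ≠ 1 := by
  intro h
  obtain ⟨g, hg⟩ := exists_conj A₀ O₀ t
  rw [h] at hg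
  have h1 : (⟨M.t₀, (A₀).C_le_G (A₀).t₀_C⟩ : M.G) = 1 := by
    calc (⟨M.t₀, (A₀).C_le_G (A₀).t₀_C⟩ : M.G) = g⁻¹ * (g * ⟨M.t₀, (A₀).C_le_G (A₀).t₀_C⟩ * g⁻¹) * g := by group
      _ = 1 := by rw [← hg]; group
  exact (A₀).rep.t₀_ne (congrArg Subtype.val h1)

/-- two generators such that every generator commutes with one of them are different -/
theorem baby_ne {p q : Gen} (h : ∀ t : Gen, coxLabel edges t p ≠ 3 ∨ coxLabel edges t q ≠ 3) : x p ≠ x q := by
  intro hpq
  have hs : IsSimpleGroup M.G := (A₀).simple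
  have hc : x p ∈ center M.G := by
    rw [mem_center_iff]
    intro g
    have hg : g ∈ closure (Set.range x) := by
      rw [Cfsg.Agent.BM.StageWSurj.closure_x A₀ O₀]; exact mem_top g
    have hle : closure (Set.range x) ≤ centralizer ({x p} : Set M.G) := by
      rw [closure_le]
      rintro _ ⟨t, rfl⟩
      rw [SetLike.mem_coe, mem_centralizer_singleton_iff]
      rcases h t with h1 | h1
      · exact baby_comm h1
      · rw [hpq]; exact baby_comm h1
    exact mem_centralizer_singleton_iff.mp (hle hg)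
  rcases hs.eq_bot_or_eq_top_of_normal (center M.G) inferInstance with h1 | h1
  · rw [h1, mem_bot] at hc
    exact baby_x_ne_one p hc
  · have h2 : x .t1 * x .t2 = x .t2 * x .t1 := by
      have h3 : x .t1 ∈ center M.G := by rw [h1]; exact mem_top _
      exact (mem_center_iff.mp h3 (x .t2)).symm
    -- the group is commutative of composite order
    have hcom : ∀ a b : M.G, a * b = b * a := by
      intro a b
      have h3 : b ∈ center M.G := by rw [h1]; exact mem_top _
      exact mem_center_iff.mp h3 a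
    have hfin := (A₀).finite_G
    have h5 : Fact (Nat.Prime 2) := ⟨Nat.prime_two⟩
    obtain ⟨y, hy⟩ := exists_prime_orderOf_dvd_card' (G := M.G) 2 (by rw [(A₀).card_G]; norm_num)
    have hn : (zpowers y).Normal := ⟨fun n hn g => by rwa [hcom g n, mul_inv_cancel_right]⟩
    rcases hs.eq_bot_or_eq_top_of_normal (zpowers y) hn with h6 | h6
    · rw [zpowers_eq_bot] at h6
      rw [h6, orderOf_one] at hy
      norm_num at hy
    · have h7 : Nat.card (zpowers y) = Nat.card M.G := by rw [h6, card_top]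
      rw [Nat.card_zpowers, hy, (A₀).card_G] at h7
      norm_num at h7

/-- the centralizers of two generators generate if every generator commutes with one of them -/
theorem baby_gen {p q : Gen} (h : ∀ t : Gen, coxLabel edges t p ≠ 3 ∨ coxLabel edges t q ≠ 3)
    (K : Subgroup M.G) (h1 : centralizer ({x p} : Set M.G) ≤ K) (h2 : centralizer ({x q} : Set M.G) ≤ K) : K = ⊤ := by
  rw [eq_top_iff, ← Cfsg.Agent.BM.StageWSurj.closure_x A₀ O₀, closure_le]
  rintro _ ⟨t, rfl⟩
  rcases h t with h3 | h3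
  · exact h1 (mem_centralizer_singleton_iff.mpr (baby_comm h3))
  · exact h2 (mem_centralizer_singleton_iff.mpr (baby_comm h3))

theorem baby_26 (t : Gen) : coxLabel edges t .t2 ≠ 3 ∨ coxLabel edges t .t6 ≠ 3 := by cases t <;> decide
theorem baby_211 (t : Gen) : coxLabel edges t .t2 ≠ 3 ∨ coxLabel edges t .t11 ≠ 3 := by cases t <;> decide
theorem baby_611 (t : Gen) : coxLabel edges t .t6 ≠ 3 ∨ coxLabel edges t .t11 ≠ 3 := by cases t <;> decide

theorem baby_mem2 : ((x .t2 : M.G) : V ≃ₗ[ℚ] V) ∈ M.Q := W_mem_Q_of rfl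
theorem baby_mem6 : ((x .t6 : M.G) : V ≃ₗ[ℚ] V) ∈ M.Q := W_mem_Q_of rfl
theorem baby_mem11 : ((x .t11 : M.G) : V ≃ₗ[ℚ] V) ∈ M.Q := W_mem_Q_of rfl

/-- **Subgroups of odd index containing the centralizer of the base transposition.** -/
theorem baby_top {N : Subgroup M.G} (hN : centralizer ({tG A₀} : Set M.G) ≤ N) (hodd : ¬ 2 ∣ N.index) : N = ⊤ := by
  by_cases h6 : x .t6 = x .t2 * zG A₀
  · have h11 : x .t11 ≠ x .t2 * zG A₀ := fun h => baby_ne baby_611 (h6.trans h.symm)
    exact eq_top A₀ B₀ baby_mem2 baby_mem11 (isConj_t₀ A₀ O₀ .t2) (isConj_t₀ A₀ O₀ .t11)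
      (baby_comm (by decide)) (baby_ne baby_211) h11 (baby_gen baby_211) hN hodd
  · exact eq_top A₀ B₀ baby_mem2 baby_mem6 (isConj_t₀ A₀ O₀ .t2) (isConj_t₀ A₀ O₀ .t6)
      (baby_comm (by decide)) (baby_ne baby_26) h6 (baby_gen baby_26) hN hodd

/-- **A proper subgroup of the Baby Monster containing the centralizer of `t11` has even index.** -/
theorem baby_odd {N : Subgroup Spor.BabyMonster}
    (hN : centralizer ({Cfsg.Agent.BM.StageBFinalOf.gB .t11} : Set Spor.BabyMonster) ≤ N)
    (hodd : ¬ 2 ∣ N.index) : N = ⊤ := by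
  obtain ⟨g, hg⟩ := exists_conj A₀ O₀ .t11
  have hg' : g⁻¹ * x .t11 * g = tG A₀ := by
    rw [hg]
    change g⁻¹ * (g * tG A₀ * g⁻¹) * g = tG A₀
    group
  let f : Spor.BabyMonster ≃* M.G := Cfsg.Agent.BM.KHAll.iso.trans (MulAut.conj g⁻¹)
  have hf : f (Cfsg.Agent.BM.StageBFinalOf.gB .t11) = tG A₀ := by
    change g⁻¹ * Cfsg.Agent.BM.KHAll.iso (Cfsg.Agent.BM.StageBFinalOf.gB .t11) * g⁻¹⁻¹ = tG A₀
    rw [Cfsg.Agent.BM.KHAll.iso_gB, inv_inv, hg']
  have h1 : N.map f.toMonoidHom = ⊤ := by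
    apply baby_top
    · intro y hy
      rw [mem_centralizer_singleton_iff] at hy
      refine ⟨f.symm y, hN ?_, f.apply_symm_apply y⟩
      rw [mem_centralizer_singleton_iff]
      apply f.injective
      rw [map_mul, map_mul, f.apply_symm_apply, hf, hy]
    · rwa [show (N.map f.toMonoidHom).index = N.index from N.index_map_equiv f]
  rw [eq_top_iff]
  intro y _
  have h2 : f y ∈ N.map f.toMonoidHom := by rw [h1]; exact mem_top _
  obtain ⟨n, hn, hny⟩ := h2
  rwa [← f.injective hny]

theorem b_model [Finite Spor.BabyMonster] : NoHall Spor.BabyMonster := by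
  intro A n hA
  have hidx := Cfsg.Agent.BM.KHAll.index_cent .t11
  have hcard := Cfsg.Agent.BM.KHAll.card_cent .t11
  have h2X : 2 ∣ Nat.card (centralizer ({Cfsg.Agent.BM.StageBFinalOf.gB .t11} : Set Spor.BabyMonster)) := by
    rw [hcard]; norm_num
  obtain ⟨M', hM1, hM2, -, hM4, -⟩ := hA.hall (centralizer ({Cfsg.Agent.BM.StageBFinalOf.gB .t11} : Set Spor.BabyMonster))
    (by
      intro h
      rw [h, card_bot] at hcard
      norm_num at hcard) (by
      intro h
      rw [h, index_top] at hidx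
      norm_num at hidx)
    (stab_of_inner (fun a _ => inner_of_out_one Cfsg.Agent.S2084.result a) _)
  apply hM2
  apply baby_odd hM1
  intro h
  exact Nat.prime_two.one_lt.ne' (Nat.dvd_one.mp (hM4 ▸ Nat.dvd_gcd (h2X.trans (card_dvd_of_le hM1)) h))

end

theorem b {G : Type*} [Group G] [Finite G] [IsSimpleGroup G] (hna : ¬ IsMulCommutative G) (h : Spor.IsoB G) :
    NoHall G := by
  obtain ⟨e⟩ := h
  exact row_congr hna e (fun _ => b_model)

end Cfsg.Agent.H964.NoHall
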