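import Cfsg.Agent.H964.NoHall.Gen
import Cfsg.Agent.H964.NoHall.Tr
import Cfsg.Agent.NotCT.Orders
import Cfsg.Agent.S1690
import Cfsg.Agent.S1691
import Cfsg.Agent.S2081

/-!
# No Hall systems: Fi24' (helper964)

All automorphisms of `Fi24'` are induced by `Fi24`, so the intersection with the subgroup of index 306936 is stable.
-/

set_option autoImplicit false

namespace Cfsg.Agent.H964.NoHall

open Subgroup Cfsg Cfsg.Agent.H554 Cfsg.Agent.NotCT MulAction

section

universe u

variable {F : Type u} [Group F] {K H : Subgroup F}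

/-- a subgroup not contained in a subgroup of index two supplements it -/
theorem sup_eq_top_of_index_two (hK : K.index = 2) {h : F} (hH : h ∈ H) (hk : h ∉ K) : H ⊔ K = ⊤ := by
  have h1 : (H ⊔ K).index ∣ 2 := hK ▸ Subgroup.index_dvd_of_le le_sup_right
  rcases (Nat.dvd_prime Nat.prime_two).1 h1 with h2 | h2
  · exact Subgroup.index_eq_one.mp h2
  · exfalso
    apply hk
    have h3 : K = H ⊔ K := by
      have h4 := Subgroup.relIndex_mul_index (show K ≤ H ⊔ K from le_sup_right)
      rw [h2, hK] at h4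
      have h5 : K.relIndex (H ⊔ K) = 1 := by omega
      exact le_antisymm le_sup_right (Subgroup.relIndex_eq_one.mp h5)
    rw [h3]
    exact (le_sup_left : H ≤ H ⊔ K) hH

theorem index_subgroupOf_of_index_two [K.Normal] (hK : K.index = 2) {h : F} (hH : h ∈ H) (hk : h ∉ K) :
    (H.subgroupOf K).index = H.index := by
  have h1 : K.relIndex H = 2 := by
    rw [← Subgroup.relIndex_sup_right H K, sup_eq_top_of_index_two hK hH hk, Subgroup.relIndex_top_right, hK]
  have h2 := Subgroup.relIndex_mul_index (show H ⊓ K ≤ H from inf_le_left)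
  have h3 := Subgroup.relIndex_mul_index (show H ⊓ K ≤ K from inf_le_right)
  rw [Subgroup.inf_relIndex_left, h1] at h2
  rw [Subgroup.inf_relIndex_right, hK] at h3
  change H.relIndex K = H.index
  omega

/-- all automorphisms are induced by the overgroup -/
theorem exists_conjNormal [K.Normal] (ho : Nat.card (Cfsg.Out K) = 2) {t : F}
    (ht : ∀ g : K, (MulAut.conjNormal t : MulAut K) ≠ MulAut.conj g) (α : MulAut K) :
    ∃ g : F, α = MulAut.conjNormal g := by
  have h1 : (MulAut.conj : K →* MulAut K).range.index = 2 := by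
    rw [← Cfsg.Agent.H997.OutCard.card_out]; exact ho
  have hin : ∀ k : K, (MulAut.conj k : MulAut K) = MulAut.conjNormal (k : F) := by
    intro k
    ext x
    simp
  by_cases hα : α ∈ (MulAut.conj : K →* MulAut K).range
  · obtain ⟨k, hk⟩ := hα
    exact ⟨k, by rw [← hk, hin]⟩
  · have ht' : (MulAut.conjNormal t : MulAut K) ∉ (MulAut.conj : K →* MulAut K).range := by
      rintro ⟨g, hg⟩
      exact ht g hg.symm
    have h2 : α * MulAut.conjNormal t ∈ (MulAut.conj : K →* MulAut K).range :=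
      (Subgroup.mul_mem_iff_of_index_two h1).mpr (iff_of_false hα ht')
    obtain ⟨k, hk⟩ := h2
    refine ⟨k * t⁻¹, ?_⟩
    rw [map_mul, map_inv, ← hin, hk, mul_inv_cancel_right]

/-- **Stability**: the intersection with `K` of a supplement of `K`. -/
theorem stab_subgroupOf [K.Normal] (hK : K.index = 2) (ho : Nat.card (Cfsg.Out K) = 2) {t : F}
    (ht : ∀ g : K, (MulAut.conjNormal t : MulAut K) ≠ MulAut.conj g) {h : F} (hH : h ∈ H) (hk : h ∉ K)
    (A : Subgroup (MulAut K)) : Stab A (H.subgroupOf K) := by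
  intro α _
  obtain ⟨g, rfl⟩ := exists_conjNormal ho ht α
  have hg : g ∈ H ⊔ K := by rw [sup_eq_top_of_index_two hK hH hk]; exact mem_top g
  rw [sup_comm, Subgroup.mem_sup_of_normal_left] at hg
  obtain ⟨s, hs, y, hy, rfl⟩ := hg
  refine ⟨⟨s, hs⟩, ?_⟩
  have key : (H.subgroupOf K).map (MulAut.conjNormal y : MulAut K).toMonoidHom = H.subgroupOf K := by
    have h1 : ∀ z ∈ H, (H.subgroupOf K).map (MulAut.conjNormal z : MulAut K).toMonoidHom ≤ H.subgroupOf K := by
      rintro z hz _ ⟨x, hx, rfl⟩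
      rw [SetLike.mem_coe, Subgroup.mem_subgroupOf] at hx
      rw [Subgroup.mem_subgroupOf]
      change ((MulAut.conjNormal z x : K) : F) ∈ H
      rw [MulAut.conjNormal_apply]
      exact H.mul_mem (H.mul_mem hz hx) (H.inv_mem hz)
    refine le_antisymm (h1 y hy) ?_
    intro x hx
    refine ⟨(MulAut.conjNormal y⁻¹ : MulAut K) x, h1 y⁻¹ (H.inv_mem hy) ⟨x, hx, rfl⟩, ?_⟩
    change (MulAut.conjNormal y : MulAut K) ((MulAut.conjNormal y⁻¹ : MulAut K) x) = x
    rw [← MulAut.mul_apply, ← map_mul, mul_inv_cancel, map_one, MulAut.one_apply]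
  have h2 : (MulAut.conjNormal (s * y) : MulAut K).toMonoidHom =
      (MulAut.conj (⟨s, hs⟩ : K) : MulAut K).toMonoidHom.comp (MulAut.conjNormal y : MulAut K).toMonoidHom := by
    ext x
    simp [mul_assoc]
  change (H.subgroupOf K).map (MulAut.conjNormal (s * y) : MulAut K).toMonoidHom = _
  rw [h2, ← Subgroup.map_map, key]

end

section

open Cfsg.Spor

theorem fi24_outer : ∃ t : Fi24, ∀ g : commutator Fi24,
    (MulAut.conjNormal t : MulAut (commutator Fi24)) ≠ MulAut.conj g := by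
  have FF := Cfsg.Agent.KFacts.FiTF.frame
  obtain ⟨_, _, t, ht, -⟩ := FF.yt
  refine ⟨t, Cfsg.Agent.H997.OutCard.conjNormal_outer (K := commutator Cfsg.Spor.Fi24) ht fun c hc => ?_⟩
  rcases FF.cent c (fun r hr => hc r (FF.EK (FF.RE hr))) with h | h
  · rw [h]
    exact one_mem _
  · rw [h]
    exact FF.EK (FF.RE FF.zR)

theorem fi24_a_not_mem : (PresentedGroup.of Fi24.Gen.a : Fi24) ∉ commutator Fi24 := by
  intro h
  have h1 : (PresentedGroup.of Fi24.Gen.a : Fi24) ∈ (Cfsg.Agent.S1691.sgn).ker := Abelianization.commutator_subset_ker _ h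
  rw [MonoidHom.mem_ker, Cfsg.Agent.S1691.sgn_of] at h1
  exact absurd h1 (by decide)

theorem fi24_model [Finite Spor.Fi24'] [IsSimpleGroup Spor.Fi24'] : NoHall Spor.Fi24' := by
  have hc : Nat.card Spor.Fi24' = prodl [(2, 21), (3, 16), (5, 2), (7, 3), (11, 1), (13, 1), (17, 1), (23, 1), (29, 1)] := by
    rw [Orders.fi24 ⟨MulEquiv.refl _⟩]; decide +kernel
  obtain ⟨t, ht⟩ := fi24_outer
  have hi := Cfsg.Agent.S1690.result
  set H := ((Subgroup.closure ({Cfsg.Spor.Fi24.a, Cfsg.Spor.Fi24.b, Cfsg.Spor.Fi24.c, Cfsg.Spor.Fi24.d,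
    Cfsg.Spor.Fi24.e, Cfsg.Spor.Fi24.f, Cfsg.Spor.Fi24.g, Cfsg.Spor.Fi24.h, Cfsg.Spor.Fi24.i, Cfsg.Spor.Fi24.j,
    Cfsg.Spor.Fi24.l} : Set (FreeGroup Cfsg.Spor.Fi24.Gen))).map (PresentedGroup.mk
      (Cfsg.Spor.coxRelators Cfsg.Spor.Fi24.edges ∪ {r | r ∈ Cfsg.Spor.Fi24.extra}))) with hHdef
  have haH : (PresentedGroup.of Fi24.Gen.a : Fi24) ∈ H := by
    refine ⟨Cfsg.Spor.Fi24.a, Subgroup.subset_closure (by simp), rfl⟩
  have hidx : (H.subgroupOf (commutator Fi24)).index = 306936 := by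
    rw [index_subgroupOf_of_index_two Cfsg.Agent.S1691.result haH fi24_a_not_mem]
    exact hi
  obtain ⟨h1, h2⟩ := ne_bot_top_of_index hidx (by norm_num) (by rw [hc]; decide +kernel)
  exact noHall_of_sub (l := [(2, 21), (3, 16), (5, 2), (7, 3), (11, 1), (13, 1), (17, 1), (23, 1), (29, 1)])
    (by decide +kernel) hc _ h1 h2
    (fun A n _ => stab_subgroupOf Cfsg.Agent.S1691.result Cfsg.Agent.S2081.result ht haH fi24_a_not_mem A) 306936 hidx
    (by decide +kernel)

end

theorem fi24 {G : Type*} [Group G] [Finite G] [IsSimpleGroup G] (hna : ¬ IsMulCommutative G) (h : Spor.IsoFi24' G) :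
    NoHall G := by
  obtain ⟨e⟩ := h
  exact row_congr hna e (fun _ => fi24_model)

end Cfsg.Agent.H964.NoHall
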