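import Cfsg.Agent.H964.NoHall.Gen
import Cfsg.Agent.H964.NoHall.Tr
import Cfsg.Agent.NotCT.Orders
import Cfsg.Agent.H337.JankoOfIso
import Cfsg.Agent.S5566
import Cfsg.Agent.S5629
import Cfsg.Agent.S2068

/-!
# No Hall systems: J4 (helper964)
-/

set_option autoImplicit false

namespace Cfsg.Agent.H964.NoHall

open Subgroup Cfsg Cfsg.Agent.H554 Cfsg.Agent.NotCT MulAction

/-- the suborbit lengths of `J₄` on the cosets of `2¹¹ : M₂₄` -/
def subJ4 : Fin 7 → ℕ := ![1, 15180, 28336, 3400320, 32643072, 54405120, 82575360]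

theorem subJ4_check : ∀ J : Finset (Fin 7), 0 ∈ J → ∀ i ∈ ([43, 899, 1073, 1147, 1247, 1333, 1591, 33263, 38657,
    46139, 49321, 1430309] : List ℕ), (∑ j ∈ J, subJ4 j) * i ≠ 173067389 := by
  decide +kernel

theorem subJ4_one : ∀ j, subJ4 j = 1 → j = 0 := by
  decide +kernel

theorem j4_model [Finite Spor.J4] [IsSimpleGroup Spor.J4] (hna : ¬ IsMulCommutative Spor.J4) : NoHall Spor.J4 := by
  have hc : Nat.card Spor.J4 = prodl [(2, 21), (3, 3), (5, 1), (7, 1), (11, 3), (23, 1), (29, 1), (31, 1), (37, 1),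
      (43, 1)] := by
    rw [Orders.j4 ⟨MulEquiv.refl _⟩]; decide +kernel
  have hJ : IsOfJankoFourType Spor.J4 := H337.isOfJankoFourType_of_isoJ4 ⟨MulEquiv.refl _⟩
  obtain ⟨z, hz⟩ := id hJ
  obtain ⟨T⟩ : Nonempty (Sylow 2 Spor.J4) := inferInstance
  obtain ⟨V, ⟨-, hV, hVc⟩, -⟩ := S5566.result hna hJ T
  obtain ⟨hX, c, hne, hall, hsub⟩ := S5629.result hna z hz V hV hVc
  have hn : ∀ i, (orbit (normalizer (V : Set Spor.J4)) (c i)).ncard = subJ4 i := by
    intro i
    have h1 : (List.ofFn fun i => (orbit (normalizer (V : Set Spor.J4)) (c i)).ncard) = List.ofFn subJ4 := by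
      rw [hsub]; rfl
    exact congrFun (List.ofFn_injective h1) i
  intro A n hA
  obtain ⟨h3, h4⟩ := ne_bot_top_of_index hX (by norm_num) (by rw [hc]; decide +kernel)
  obtain ⟨M, hM1, hM2, -, hM4, -⟩ := hA.hall _ h3 h4 (stab_of_inner (fun a _ => inner_of_out_one S2068.result a) _)
  have hi := index_mem_of_dvd (l := [(2, 21), (3, 3), (5, 1), (7, 1), (11, 3), (23, 1), (29, 1), (31, 1), (37, 1),
      (43, 1)]) (by decide +kernel) hc 173067389 [] [] [43, 899, 1073, 1147, 1247, 1333, 1591, 33263, 38657,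
    46139, 49321, 1430309] (by decide +kernel) hM2 hM4 (index_dvd_of_le' hM1 hX)
    (by intro r hr; simp at hr) (by intro r hr; simp at hr)
  obtain ⟨J, ⟨j, hj, hj1⟩, hJs⟩ := relIndex_eq_sum hM1 c hne hall
  simp only [hn] at hJs
  have h0 : j = 0 := by
    have h1 : orbit (normalizer (V : Set Spor.J4)) (c j) =
        orbit (normalizer (V : Set Spor.J4)) ((1 : Spor.J4) : Spor.J4 ⧸ normalizer (V : Set Spor.J4)) :=
      (orbit_eq_iff.mpr hj1).symm
    have h2 : (orbit (normalizer (V : Set Spor.J4)) (c j)).ncard = 1 := by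
      rw [h1, orbit_base, Set.ncard_singleton]
    rw [hn] at h2
    exact subJ4_one j h2
  subst h0
  apply subJ4_check J hj _ hi
  rw [← hJs, ← hX]
  exact Subgroup.relIndex_mul_index hM1

theorem j4 {G : Type*} [Group G] [Finite G] [IsSimpleGroup G] (hna : ¬ IsMulCommutative G) (h : Spor.IsoJ4 G) :
    NoHall G := by
  obtain ⟨e⟩ := h
  exact row_congr hna e j4_model

end Cfsg.Agent.H964.NoHall
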