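import Cfsg.Agent.H964.NoHall.MonA
import Cfsg.Agent.H964.NoHall.Gen
import Cfsg.Agent.H964.NoHall.Tr
import Cfsg.Agent.H848.MonsterSetup
import Cfsg.Agent.S5534
import Cfsg.Agent.S1704
import Cfsg.Agent.S2085

/-!
# No Hall systems: the Monster (helper964)

A Hall subgroup containing `2.B` has index dividing `29 * 41 * 59 * 71`, and the Monster has no nontrivial action on
fewer than `2 ^ 23` points.
-/

set_option autoImplicit false

namespace Cfsg.Agent.H964.NoHall

open Subgroup Cfsg Cfsg.Agent.H554 MulAction

theorem card_baby : Nat.card Spor.BabyMonster = 4154781481226426191177580544000000 := Cfsg.Agent.S1704.result.2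

theorem monster_big {M : Subgroup Spor.Monster} (hM : M ≠ ⊤) : 2 ^ 23 ≤ M.index := by
  by_contra hlt
  push Not at hlt
  have hs := Cfsg.Agent.H848.MonsterSetup.simple
  have hf := Cfsg.Agent.H848.MonsterSetup.finite
  obtain ⟨Q, z, eta, pi, h⟩ := Cfsg.Agent.H848.MonsterSetup.exists_chart
  have h1 := fun ω : Spor.Monster ⧸ M => MonA.fix_of_card_lt h (Ω := Spor.Monster ⧸ M) hlt ω
  have h2 : z ∈ M.normalCore := by
    intro g
    have h3 := h1 ((g⁻¹ : Spor.Monster) : Spor.Monster ⧸ M)
    have h4 : ((z * g⁻¹ : Spor.Monster) : Spor.Monster ⧸ M) = ((g⁻¹ : Spor.Monster) : Spor.Monster ⧸ M) := h3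
    rw [QuotientGroup.eq] at h4
    have h5 : g * z * g⁻¹ = ((z * g⁻¹)⁻¹ * g⁻¹)⁻¹ := by group
    rw [h5]
    exact M.inv_mem h4
  rcases hs.eq_bot_or_eq_top_of_normal M.normalCore inferInstance with h3 | h3
  · rw [h3, mem_bot] at h2
    have h4 := Cfsg.Agent.LargeExtra.Base.orderOf_z h.large
    rw [h2, orderOf_one] at h4
    norm_num at h4
  · exact hM (top_le_iff.mp (h3 ▸ M.normalCore_le))

theorem m_model [Finite Spor.Monster] : NoHall Spor.Monster := by
  intro A n hA
  obtain ⟨y, hy, hc, ⟨e⟩, -⟩ := Cfsg.Agent.S5534.result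
  have hcard : Nat.card (centralizer ({y} : Set Spor.Monster)) = 8309562962452852382355161088000000 := by
    have h1 := (center (centralizer ({y} : Set Spor.Monster))).card_mul_index
    have h2 : (center (centralizer ({y} : Set Spor.Monster))).index = Nat.card Spor.BabyMonster := Nat.card_congr e.toEquiv
    rw [h2, hc, card_baby] at h1
    omega
  have hG := Cfsg.Agent.H848.MonsterSetup.card
  have hidx : (centralizer ({y} : Set Spor.Monster)).index = 97239461142009186000 := by
    have h1 := (centralizer ({y} : Set Spor.Monster)).card_mul_index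
    rw [hcard, hG] at h1
    omega
  obtain ⟨M', hM1, hM2, -, hM4, -⟩ := hA.hall (centralizer ({y} : Set Spor.Monster))
    (by
      intro h
      rw [h, card_bot] at hcard
      norm_num at hcard) (by
      intro h
      rw [h, index_top] at hidx
      norm_num at hidx)
    (stab_of_inner (fun a _ => inner_of_out_one Cfsg.Agent.S2085.result a) _)
  have h1 : M'.index ∣ 19523169666000 * 4980721 := by
    have := index_dvd_of_le' hM1 hidx
    norm_num
    exact this
  have h2 : Nat.card (centralizer ({y} : Set Spor.Monster)) ∣ Nat.card M' := card_dvd_of_le hM1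
  have h3 : M'.index.Coprime 30030 := by
    refine (Nat.Coprime.coprime_dvd_left ?_ hM4).symm
    refine dvd_trans ?_ h2
    rw [hcard]
    norm_num
  have h4 : M'.index.Coprime 19523169666000 := by
    refine Nat.Coprime.coprime_dvd_right ?_ (h3.pow_right 7)
    norm_num
  have h5 := Nat.le_of_dvd (by norm_num) (h4.dvd_of_dvd_mul_left h1)
  have h6 := monster_big hM2
  omega

theorem m {G : Type*} [Group G] [Finite G] [IsSimpleGroup G] (hna : ¬ IsMulCommutative G) (h : Spor.IsoM G) :
    NoHall G := by
  obtain ⟨e⟩ := h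
  exact row_congr hna e (fun _ => m_model)

end Cfsg.Agent.H964.NoHall
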