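import Cfsg.Agent.H964.NoHall.Gen
import Cfsg.Agent.H964.NoHall.Tr
import Cfsg.Agent.NotCT.Orders
import Cfsg.Agent.S2078
import Cfsg.Agent.SporadicB.ON45Sub

/-!
# No Hall systems: O'N (helper964)
-/

set_option autoImplicit false

namespace Cfsg.Agent.H964.NoHall

open Subgroup Cfsg Cfsg.Agent.H554 Cfsg.Agent.NotCT MulAction

theorem on_model [Finite Spor.ON] [hs : IsSimpleGroup Spor.ON] (hna : ¬ IsMulCommutative Spor.ON) :
    NoHall Spor.ON := by
  have hc0 : Nat.card Spor.ON = 460815505920 := Orders.on ⟨MulEquiv.refl _⟩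
  have hc : Nat.card Spor.ON = prodl [(2, 9), (3, 4), (5, 1), (7, 3), (11, 1), (19, 1), (31, 1)] := by
    rw [hc0]; decide +kernel
  obtain ⟨X, hXc⟩ : ∃ X : Subgroup Spor.ON, Nat.card X = 175560 := ⟨_, (SporadicB.ON45Sub.isJ1 hs).2⟩
  have hX : X.index = 2624832 := by
    have := X.card_mul_index
    rw [hXc, hc0] at this
    omega
  intro A n hA
  rcases inner_or_two_dvd S2078.result hA with h | h
  · obtain ⟨h1, h2⟩ := ne_bot_top_of_index hX (by norm_num) (by rw [hc]; decide +kernel)
    obtain ⟨M, hM1, hM2, -, hM4, -⟩ := hA.hall _ h1 h2 (stab_of_inner h _)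
    have hi := index_mem_of_dvd (l := [(2, 9), (3, 4), (5, 1), (7, 3), (11, 1), (19, 1), (31, 1)]) (by decide +kernel)
      hc 2624832 [] [] [31] (by decide +kernel) hM2 hM4 (index_dvd_of_le' hM1 hX) (by intro r hr; simp at hr)
      (by intro r hr; simp at hr)
    rw [List.mem_singleton] at hi
    have h3 := factorial_le_of_prime_index (q := 31) (r := 19) (by norm_num) hi (by norm_num) (by norm_num)
      (by norm_num) (by rw [hc]; decide +kernel)
    rw [hc0] at h3
    revert h3
    decide +kernel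
  · exact false_of_even hna (l := [(2, 9), (3, 4), (5, 1), (7, 3), (11, 1), (19, 1), (31, 1)]) (by decide +kernel) hc
      (by decide +kernel) (r := 31) (by norm_num) (by decide +kernel) (by decide +kernel) hA h

theorem on {G : Type*} [Group G] [Finite G] [IsSimpleGroup G] (hna : ¬ IsMulCommutative G) (h : Spor.IsoON G) :
    NoHall G := by
  obtain ⟨e⟩ := h
  exact row_congr hna e on_model

end Cfsg.Agent.H964.NoHall
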