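import Cfsg.Agent.H964.NoHall.Elts
import Cfsg.Agent.H964.NoHall.Tr
import Cfsg.Agent.Omega.TitsIso.TitsSide
import Cfsg.Agent.Omega.TwoF.TitsAut

/-!
# No Hall systems: the Tits group (helper964)

An element of order 13 and an element of order 3 normalising the subgroup it generates.
-/

set_option autoImplicit false
set_option maxRecDepth 100000

namespace Cfsg.Agent.H964.NoHall

open Subgroup Cfsg Cfsg.Agent.H554 MulAction

section

open Cfsg.Agent.ChevalleyStructure.Tits.Pack Cfsg.Agent.ChevalleyStructure.Tits.Data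
  Cfsg.Agent.ChevalleyStructure.Tits.Sat Cfsg.Agent.ChevalleyStructure.Tits.Final
  Cfsg.Agent.ChevalleyStructure.Tits.Mat Cfsg.Agent.ChevalleyStructure.Tits.Order
  Cfsg.Agent.ChevalleyStructure.Tits.Main Cfsg.Agent.Omega.TitsIso.TitsSideRel
  Cfsg.Agent.Omega.TitsIso.TitsSide

open scoped MatrixGroups

/-- a word is not the identity if an off-diagonal entry of its matrix is not zero -/
theorem tits_ne {l : List ℕ} (hl : ∀ k ∈ l, k < 10) (i j : Fin 48) (hij : i ≠ j)
    (h : Nat.testBit (evalW l) (52 * (4 + j.val) + (4 + i.val)) = true) : (l.map yH).prod ≠ 1 := by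
  intro h1
  have h2 : (((l.map yG).prod : GL I52 (ZMod 2)) : Matrix I52 I52 (ZMod 2)) = 1 := by
    rw [← coe_list l hl, h1]; rfl
  rw [coe_word l (fun k hk => by have := hl k hk; omega), ← toMat_evalW] at h2
  have h3 := congrFun (congrFun h2 (Sum.inr i)) (Sum.inr j)
  rw [toMat_apply, ix_inr, ix_inr, h, Matrix.one_apply_ne (by intro h4; exact hij (Sum.inr_injective h4))] at h3
  exact absurd h3 (by decide)

/-- the element of order 13 -/
def titsW : List (ZMod 8) := [0, 1, 3, 6]

/-- the element of order 3 -/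
def titsH : List (ZMod 8) := [1, 4, 1, 4, 6, 3, 2, 0, 5, 3]

/-- the product of the involutions of the simple group -/
noncomputable def titsE (l : List (ZMod 8)) : commutator H0 := (l.map ZC).prod

theorem titsE_coe (l : List (ZMod 8)) : ((titsE l : commutator H0) : H0) = (l.map ZH).prod := by
  unfold titsE
  induction l with
  | nil => rfl
  | cons a l ih => rw [List.map_cons, List.prod_cons, List.map_cons, List.prod_cons, Subgroup.coe_mul, ih]; rfl

theorem titsE_append (l m : List (ZMod 8)) : titsE (l ++ m) = titsE l * titsE m := by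
  unfold titsE
  rw [List.map_append, List.prod_append]

theorem titsE_eq {l m : List (ZMod 8)} (h : chk (zz l, zz m) = true) : titsE l = titsE m := by
  apply Subtype.ext
  rw [titsE_coe, titsE_coe]
  exact rel_zz h

theorem titsE_ne {l : List (ZMod 8)} (i j : Fin 48) (hij : i ≠ j)
    (h : Nat.testBit (evalW (zz l)) (52 * (4 + j.val) + (4 + i.val)) = true) : titsE l ≠ 1 := by
  intro h1
  apply tits_ne (zz_lt l) i j hij h
  rw [prod_zz, ← titsE_coe, h1]
  rfl

theorem titsE_pow (l : List (ZMod 8)) (n : ℕ) : titsE (List.replicate n l).flatten = titsE l ^ n := by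
  induction n with
  | zero => rfl
  | succ n ih => rw [List.replicate_succ, List.flatten_cons, titsE_append, ih, pow_succ']

theorem titsW_13 : titsE titsW ^ 13 = 1 := by
  rw [← titsE_pow]
  exact titsE_eq (m := []) (by decide +kernel)

theorem titsH_3 : titsE titsH ^ 3 = 1 := by
  rw [← titsE_pow]
  exact titsE_eq (m := []) (by decide +kernel)

theorem titsW_ne : titsE titsW ≠ 1 := titsE_ne 7 0 (by decide) (by decide +kernel)

theorem titsH_ne : titsE titsH ≠ 1 := titsE_ne 2 0 (by decide) (by decide +kernel)

theorem titsHW : titsE titsH * titsE titsW = titsE titsW ^ 3 * titsE titsH := by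
  rw [← titsE_pow, ← titsE_append, ← titsE_append]
  exact titsE_eq (by decide +kernel)

theorem tits_model [Finite (commutator H0)] [IsSimpleGroup (commutator H0)]
    (hna : ¬ IsMulCommutative (commutator H0)) : NoHall (commutator H0) := by
  have hc : Nat.card (commutator H0) = prodl [(2, 11), (3, 3), (5, 2), (13, 1)] := by
    rw [H0_result.2.2.2]; decide +kernel
  have : Fact (Nat.Prime 13) := ⟨by norm_num⟩
  refine noHall_of_elts' hna (l := [(2, 11), (3, 3), (5, 2), (13, 1)]) (by decide +kernel) hc
    (r := 13) (by norm_num) (by rw [hc]; decide +kernel) (need := [3]) (orderOf_eq_prime titsW_13 titsW_ne) ?_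
    (by decide +kernel)
  intro q hq
  rw [List.mem_singleton] at hq
  subst hq
  exact ⟨by norm_num, _, _, dvd_orderOf_of_pow (k := 1) (by norm_num) titsH_3 titsH_ne, titsHW⟩

end

theorem row_comm {G Γ : Type*} [Group G] [Group Γ] [Finite G] [IsSimpleGroup G] (hna : ¬ IsMulCommutative G)
    {T₀ : Subgroup Γ} (H : ∀ [Finite (commutator T₀)] [IsSimpleGroup (commutator T₀)],
      ¬ IsMulCommutative (commutator T₀) → NoHall (commutator T₀))
    (h : ∃ T : Subgroup Γ, T = T₀ ∧ Nonempty (G ≃* commutator T)) : NoHall G := by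
  obtain ⟨T, rfl, ⟨e⟩⟩ := h
  exact row_congr hna e H

theorem tits {G : Type*} [Group G] [Finite G] [IsSimpleGroup G] (hna : ¬ IsMulCommutative G) (h : Lie.IsoTits G) :
    NoHall G := by
  refine row_comm hna ?_ (Cfsg.Agent.Omega.TwoF.TitsAut.exists_equiv h)
  intro h1 h2 h3
  exact tits_model h3

end Cfsg.Agent.H964.NoHall
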