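import Cfsg.Agent.H964.NoHall.Gen
import Cfsg.Agent.H964.NoHall.Tr
import Cfsg.Agent.NotCT.Orders
import Cfsg.Agent.S1624
import Cfsg.Agent.S1680
import Cfsg.Agent.S1689
import Cfsg.Agent.S2066
import Cfsg.Agent.S2074
import Cfsg.Agent.S2080

/-!
# No Hall systems: J2, Suz, Fi23 (helper964)
-/

set_option autoImplicit false

namespace Cfsg.Agent.H964.NoHall

open Subgroup Cfsg Cfsg.Agent.H554 Cfsg.Agent.NotCT MulAction

theorem relIndex_eq_div {S : Type*} [Group S] [Finite S] {X M : Subgroup S} (h : X ≤ M) {N i : ℕ} (hN : X.index = N)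
    (hi : M.index = i) : X.relIndex M * i = N := by
  rw [← hN, ← hi]
  exact Subgroup.relIndex_mul_index h

/-! ### J2 -/

theorem j2_model [Finite Spor.J2] [IsSimpleGroup Spor.J2] (hna : ¬ IsMulCommutative Spor.J2) : NoHall Spor.J2 := by
  have hc : Nat.card Spor.J2 = prodl [(2, 7), (3, 3), (5, 2), (7, 1)] := by
    rw [Orders.j2 ⟨MulEquiv.refl _⟩]; decide +kernel
  obtain ⟨X, hX, -, c₁, c₂, h36, h63⟩ := S1624.result
  intro A n hA
  rcases inner_or_two_dvd S2066.result hA with h | h
  · obtain ⟨h1, h2⟩ := ne_bot_top_of_index hX (by norm_num) (by rw [hc]; decide +kernel)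
    obtain ⟨M, hM1, hM2, -, hM4, -⟩ := hA.hall _ h1 h2 (stab_of_inner h _)
    have hi := index_mem_of_dvd (l := [(2, 7), (3, 3), (5, 2), (7, 1)]) (by decide +kernel) hc 100 [] []
      [25] (by decide +kernel) hM2 hM4 (index_dvd_of_le' hM1 hX) (by intro r hr; simp at hr)
      (by intro r hr; simp at hr)
    rw [List.mem_singleton] at hi
    have h3 := relIndex_eq_div hM1 hX hi
    have h4 := relIndex_of_three hM1 hX (a := 36) (b := 63) (by norm_num) (by norm_num) (by norm_num) (by norm_num)
      h36 h63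
    omega
  · exact false_of_even hna (l := [(2, 7), (3, 3), (5, 2), (7, 1)]) (by decide +kernel) hc (by decide +kernel)
      (r := 5) (by norm_num) (by decide +kernel) (by decide +kernel) hA h

theorem j2 {G : Type*} [Group G] [Finite G] [IsSimpleGroup G] (hna : ¬ IsMulCommutative G) (h : Spor.IsoJ2 G) :
    NoHall G := by
  obtain ⟨e⟩ := h
  exact row_congr hna e j2_model

/-! ### Suz -/

theorem suz_model [Finite Spor.Suz] [IsSimpleGroup Spor.Suz] (hna : ¬ IsMulCommutative Spor.Suz) : NoHall Spor.Suz := by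
  have hc : Nat.card Spor.Suz = prodl [(2, 13), (3, 7), (5, 2), (7, 1), (11, 1), (13, 1)] := by
    rw [Orders.suz ⟨MulEquiv.refl _⟩]; decide +kernel
  exact noHall_of_two hna S2074.result (by decide +kernel) hc _ 1782 S1680.result.1 (by norm_num) (by decide +kernel)
    (by decide +kernel) (by decide +kernel) (r := 11) (by norm_num) (by decide +kernel) (by decide +kernel)

theorem suz {G : Type*} [Group G] [Finite G] [IsSimpleGroup G] (hna : ¬ IsMulCommutative G) (h : Spor.IsoSuz G) :
    NoHall G := by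
  obtain ⟨e⟩ := h
  exact row_congr hna e suz_model

/-! ### Fi23 -/

theorem fi23_model [Finite Spor.Fi23] [IsSimpleGroup Spor.Fi23] : NoHall Spor.Fi23 := by
  have hc : Nat.card Spor.Fi23 = prodl [(2, 18), (3, 13), (5, 2), (7, 1), (11, 1), (13, 1), (17, 1), (23, 1)] := by
    rw [Orders.fi23 ⟨MulEquiv.refl _⟩]; decide +kernel
  obtain ⟨hX, c₁, c₂, h1, h2⟩ := S1689.result
  intro A n hA
  obtain ⟨h3, h4⟩ := ne_bot_top_of_index hX (by norm_num) (by rw [hc]; decide +kernel)
  obtain ⟨M, hM1, hM2, -, hM4, -⟩ := hA.hall _ h3 h4 (stab_of_inner (fun a _ => inner_of_out_one S2080.result a) _)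
  have hi := index_mem_of_dvd (l := [(2, 18), (3, 13), (5, 2), (7, 1), (11, 1), (13, 1), (17, 1), (23, 1)])
    (by decide +kernel) hc 31671 [] [] [391] (by decide +kernel) hM2 hM4 (index_dvd_of_le' hM1 hX)
    (by intro r hr; simp at hr) (by intro r hr; simp at hr)
  rw [List.mem_singleton] at hi
  have h5 := relIndex_eq_div hM1 hX hi
  have h6 := relIndex_of_three hM1 hX (a := 3510) (b := 28160) (by norm_num) (by norm_num) (by norm_num) (by norm_num)
    h1 h2
  omega

theorem fi23 {G : Type*} [Group G] [Finite G] [IsSimpleGroup G] (hna : ¬ IsMulCommutative G) (h : Spor.IsoFi23 G) :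
    NoHall G := by
  obtain ⟨e⟩ := h
  exact row_congr hna e fun _ => fi23_model

end Cfsg.Agent.H964.NoHall
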