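import Cfsg.Agent.H964.NoHall.RowsA
import Cfsg.Agent.H964.NoHall.RowsC
import Cfsg.Agent.H964.NoHall.RowsM
import Cfsg.Agent.H964.NoHall.RowsP
import Cfsg.Agent.H964.NoHall.RowB
import Cfsg.Agent.H964.NoHall.RowFi22
import Cfsg.Agent.H964.NoHall.RowFi24
import Cfsg.Agent.H964.NoHall.RowHN
import Cfsg.Agent.H964.NoHall.RowJ1
import Cfsg.Agent.H964.NoHall.RowJ4
import Cfsg.Agent.H964.NoHall.RowMon
import Cfsg.Agent.H964.NoHall.RowON
import Cfsg.Agent.H964.NoHall.RowTh
import Cfsg.Prelude.Def_Classification2

/-!
# No Hall systems: the sporadic groups (helper964)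

`noHall_sporadic` : the 26 sporadic groups.  The Tits group is `NoHall.tits` in `RowTits`.
-/

set_option autoImplicit false

namespace Cfsg.Agent.H964.NoHall

open Subgroup Cfsg Cfsg.Agent.H554

/-- **The sporadic groups have no Hall systems.** -/
theorem noHall_sporadic {G : Type*} [Group G] [Finite G] [IsSimpleGroup G] (hna : ¬ IsMulCommutative G)
    (h : IsSporadicGroup G) : NoHall G := by
  rcases h with h | h | h | h | h | h | h | h | h | h | h | h | h | h | h | h | h | h | h | h | h | h | h | h | h | h
  · exact m11 hna h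
  · exact m12 hna h
  · exact m22 hna h
  · exact m23 hna h
  · exact m24 hna h
  · exact j1 hna h
  · exact j2 hna h
  · exact j3 hna h
  · exact j4 hna h
  · exact co1 hna h
  · exact co2 hna h
  · exact co3 hna h
  · exact mcl hna h
  · exact hs hna h
  · exact suz hna h
  · exact he hna h
  · exact ru hna h
  · exact on hna h
  · exact ly hna h
  · exact fi22 hna h
  · exact fi23 hna h
  · exact fi24 hna h
  · exact hn hna h
  · exact th hna h
  · exact b hna h
  · exact m hna h

end Cfsg.Agent.H964.NoHall
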